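import Cfsg.Agent.Lib.Helper9.G23Mat.Defs

set_option autoImplicit false
set_option maxRecDepth 1000000
set_option maxHeartbeats 0

namespace Cfsg.Agent.Helper9.G23Mat

open Matrix Cfsg Cfsg.Lie Cfsg.Agent.Helper9 Cfsg.Agent.Helper9.Vec14F3

theorem rw2_ev_6 : ∀ j : Fin 14, ev gA gAi (rw2 6).toWord (bas j) = (xr2 6).app (bas j) := by
  decide +kernel

theorem rw2_ev_7 : ∀ j : Fin 14, ev gA gAi (rw2 7).toWord (bas j) = (xr2 7).app (bas j) := by
  decide +kernel

theorem rw2_ev_8 : ∀ j : Fin 14, ev gA gAi (rw2 8).toWord (bas j) = (xr2 8).app (bas j) := by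
  decide +kernel

end Cfsg.Agent.Helper9.G23Mat
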