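import Mathlib
import Cfsg.Prelude.Def_ChevG2
import Cfsg.Agent.Lib.Helper9.Vec14F3

set_option autoImplicit false
set_option maxRecDepth 1000000
set_option maxHeartbeats 0

/-! The root elements of the Chevalley group of type `G₂` over the field with three elements as
explicit matrices, generators `a`, `b`, `v = a b` of orders 2, 3 and 13, and words expressing the
root elements in the generators and the generators in the root elements. -/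

namespace Cfsg.Agent.Helper9.G23Mat

open Matrix Cfsg Cfsg.Lie Cfsg.Agent.Helper9 Cfsg.Agent.Helper9.Vec14F3

/-- The generators. -/
def gA : Fin 3 → M14 := ![
  ⟨⟨0, 0, 0, 0, 1, 1, 2, 0, 2, 2, 2, 1, 0, 2⟩,
    ⟨0, 0, 2, 0, 0, 0, 0, 2, 1, 0, 0, 0, 0, 1⟩,
    ⟨0, 2, 2, 0, 0, 0, 0, 2, 1, 0, 0, 0, 1, 0⟩,
    ⟨0, 0, 0, 0, 0, 0, 0, 1, 0, 0, 0, 0, 2, 1⟩,
    ⟨2, 0, 2, 0, 0, 2, 0, 1, 1, 0, 1, 1, 2, 1⟩,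
    ⟨1, 0, 1, 0, 2, 1, 1, 0, 0, 2, 1, 1, 0, 2⟩,
    ⟨1, 1, 2, 0, 0, 1, 0, 2, 1, 1, 2, 0, 1, 2⟩,
    ⟨0, 2, 0, 1, 0, 0, 0, 2, 1, 0, 0, 0, 0, 1⟩,
    ⟨0, 1, 1, 0, 0, 0, 0, 0, 2, 0, 0, 0, 1, 2⟩,
    ⟨1, 0, 1, 1, 1, 2, 0, 1, 1, 0, 1, 0, 0, 2⟩,
    ⟨2, 2, 0, 0, 1, 1, 2, 1, 2, 1, 1, 2, 0, 0⟩,
    ⟨2, 2, 2, 2, 0, 1, 1, 1, 2, 0, 2, 0, 0, 2⟩,
    ⟨0, 0, 1, 1, 0, 0, 0, 0, 1, 0, 0, 0, 0, 0⟩,
    ⟨0, 1, 1, 1, 0, 0, 0, 1, 0, 0, 0, 0, 0, 2⟩⟩,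
  ⟨⟨2, 2, 2, 2, 1, 2, 2, 2, 1, 0, 0, 0, 1, 2⟩,
    ⟨0, 2, 0, 1, 0, 0, 0, 1, 2, 0, 0, 0, 1, 0⟩,
    ⟨0, 2, 1, 2, 0, 0, 0, 1, 0, 0, 0, 0, 0, 2⟩,
    ⟨0, 2, 1, 0, 0, 0, 0, 0, 2, 0, 0, 0, 2, 2⟩,
    ⟨1, 1, 0, 0, 1, 2, 2, 1, 2, 1, 2, 2, 0, 0⟩,
    ⟨2, 1, 2, 1, 0, 1, 2, 0, 1, 0, 2, 0, 0, 0⟩,
    ⟨1, 0, 2, 0, 0, 1, 0, 1, 1, 2, 2, 0, 0, 0⟩,
    ⟨0, 1, 1, 2, 0, 0, 0, 2, 2, 0, 0, 0, 0, 1⟩,
    ⟨0, 2, 1, 0, 0, 0, 0, 2, 2, 0, 0, 0, 1, 1⟩,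
    ⟨2, 2, 2, 1, 1, 1, 0, 2, 1, 2, 1, 1, 0, 0⟩,
    ⟨2, 2, 1, 0, 1, 0, 2, 2, 1, 2, 1, 1, 0, 0⟩,
    ⟨0, 1, 2, 2, 2, 2, 2, 1, 2, 2, 1, 0, 0, 0⟩,
    ⟨0, 0, 0, 2, 0, 0, 0, 2, 2, 0, 0, 0, 1, 2⟩,
    ⟨0, 2, 2, 1, 0, 0, 0, 1, 0, 0, 0, 0, 1, 2⟩⟩,
  ⟨⟨1, 1, 2, 1, 1, 0, 1, 0, 0, 0, 1, 0, 1, 0⟩,
    ⟨0, 1, 1, 0, 0, 0, 0, 0, 0, 0, 0, 0, 2, 0⟩,
    ⟨0, 0, 2, 0, 0, 0, 0, 0, 0, 0, 0, 0, 1, 0⟩,
    ⟨0, 0, 0, 1, 0, 0, 0, 1, 0, 0, 0, 0, 0, 1⟩,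
    ⟨1, 0, 2, 1, 2, 2, 0, 0, 0, 1, 0, 1, 0, 1⟩,
    ⟨1, 0, 0, 2, 2, 0, 0, 0, 0, 0, 0, 1, 0, 2⟩,
    ⟨1, 2, 2, 2, 1, 1, 2, 0, 0, 0, 2, 0, 0, 0⟩,
    ⟨0, 0, 0, 1, 0, 0, 0, 0, 0, 0, 0, 0, 0, 1⟩,
    ⟨0, 0, 1, 1, 0, 0, 0, 1, 2, 0, 0, 0, 0, 1⟩,
    ⟨0, 0, 0, 1, 0, 0, 1, 0, 0, 0, 1, 0, 0, 0⟩,
    ⟨1, 0, 2, 2, 0, 2, 2, 0, 2, 1, 0, 1, 0, 1⟩,
    ⟨2, 0, 0, 0, 1, 0, 1, 0, 2, 0, 0, 2, 0, 1⟩,
    ⟨0, 0, 0, 2, 0, 0, 0, 0, 1, 0, 0, 0, 0, 2⟩,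
    ⟨0, 2, 1, 1, 0, 0, 0, 0, 0, 0, 0, 0, 2, 0⟩⟩]

/-- The inverses of the generators. -/
def gAi : Fin 3 → M14 := ![
  ⟨⟨0, 0, 0, 0, 1, 1, 2, 0, 2, 2, 2, 1, 0, 2⟩,
    ⟨0, 0, 2, 0, 0, 0, 0, 2, 1, 0, 0, 0, 0, 1⟩,
    ⟨0, 2, 2, 0, 0, 0, 0, 2, 1, 0, 0, 0, 1, 0⟩,
    ⟨0, 0, 0, 0, 0, 0, 0, 1, 0, 0, 0, 0, 2, 1⟩,
    ⟨2, 0, 2, 0, 0, 2, 0, 1, 1, 0, 1, 1, 2, 1⟩,
    ⟨1, 0, 1, 0, 2, 1, 1, 0, 0, 2, 1, 1, 0, 2⟩,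
    ⟨1, 1, 2, 0, 0, 1, 0, 2, 1, 1, 2, 0, 1, 2⟩,
    ⟨0, 2, 0, 1, 0, 0, 0, 2, 1, 0, 0, 0, 0, 1⟩,
    ⟨0, 1, 1, 0, 0, 0, 0, 0, 2, 0, 0, 0, 1, 2⟩,
    ⟨1, 0, 1, 1, 1, 2, 0, 1, 1, 0, 1, 0, 0, 2⟩,
    ⟨2, 2, 0, 0, 1, 1, 2, 1, 2, 1, 1, 2, 0, 0⟩,
    ⟨2, 2, 2, 2, 0, 1, 1, 1, 2, 0, 2, 0, 0, 2⟩,
    ⟨0, 0, 1, 1, 0, 0, 0, 0, 1, 0, 0, 0, 0, 0⟩,
    ⟨0, 1, 1, 1, 0, 0, 0, 1, 0, 0, 0, 0, 0, 2⟩⟩,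
  ⟨⟨2, 0, 2, 2, 0, 1, 1, 0, 0, 2, 1, 2, 0, 0⟩,
    ⟨0, 2, 1, 0, 0, 0, 0, 1, 2, 0, 0, 0, 1, 1⟩,
    ⟨0, 0, 2, 2, 0, 0, 0, 1, 1, 0, 0, 0, 2, 2⟩,
    ⟨0, 2, 1, 1, 0, 0, 0, 1, 0, 0, 0, 0, 2, 0⟩,
    ⟨0, 2, 0, 0, 0, 1, 1, 2, 1, 0, 0, 2, 1, 2⟩,
    ⟨0, 1, 1, 1, 1, 1, 1, 0, 1, 2, 2, 2, 0, 2⟩,
    ⟨0, 0, 2, 2, 2, 2, 2, 1, 1, 2, 0, 1, 2, 2⟩,
    ⟨0, 1, 0, 2, 0, 0, 0, 2, 2, 0, 0, 0, 2, 0⟩,
    ⟨0, 2, 1, 2, 0, 0, 0, 2, 2, 0, 0, 0, 0, 1⟩,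
    ⟨1, 0, 1, 1, 2, 2, 0, 1, 1, 0, 2, 2, 1, 1⟩,
    ⟨1, 1, 1, 1, 2, 0, 1, 2, 0, 1, 1, 2, 2, 0⟩,
    ⟨2, 1, 2, 2, 2, 1, 1, 1, 2, 0, 0, 1, 1, 2⟩,
    ⟨0, 2, 1, 2, 0, 0, 0, 0, 2, 0, 0, 0, 0, 2⟩,
    ⟨0, 0, 2, 0, 0, 0, 0, 1, 1, 0, 0, 0, 1, 1⟩⟩,
  ⟨⟨1, 2, 1, 0, 1, 2, 0, 1, 0, 2, 2, 2, 1, 0⟩,
    ⟨0, 1, 1, 0, 0, 0, 0, 0, 0, 0, 0, 0, 0, 0⟩,
    ⟨0, 0, 0, 2, 0, 0, 0, 1, 1, 0, 0, 0, 1, 0⟩,
    ⟨0, 1, 2, 0, 0, 0, 0, 0, 0, 0, 0, 0, 0, 1⟩,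
    ⟨0, 0, 0, 0, 2, 1, 0, 2, 0, 0, 1, 1, 2, 0⟩,
    ⟨2, 2, 0, 2, 0, 0, 1, 1, 1, 2, 0, 0, 1, 0⟩,
    ⟨0, 1, 2, 0, 0, 1, 0, 1, 0, 0, 0, 1, 1, 1⟩,
    ⟨0, 0, 0, 1, 0, 0, 0, 2, 0, 0, 0, 0, 0, 0⟩,
    ⟨0, 0, 0, 0, 0, 0, 0, 1, 0, 0, 0, 0, 1, 0⟩,
    ⟨2, 2, 0, 1, 1, 2, 1, 0, 2, 2, 0, 0, 2, 0⟩,
    ⟨0, 1, 2, 0, 0, 2, 0, 2, 0, 1, 0, 2, 2, 1⟩,
    ⟨2, 1, 2, 0, 1, 0, 0, 2, 0, 1, 2, 2, 1, 0⟩,
    ⟨0, 0, 1, 2, 0, 0, 0, 1, 1, 0, 0, 0, 1, 0⟩,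
    ⟨0, 2, 1, 0, 0, 0, 0, 1, 0, 0, 0, 0, 0, 2⟩⟩]

/-- The identity. -/
def idM : M14 :=
  ⟨⟨1, 0, 0, 0, 0, 0, 0, 0, 0, 0, 0, 0, 0, 0⟩,
    ⟨0, 1, 0, 0, 0, 0, 0, 0, 0, 0, 0, 0, 0, 0⟩,
    ⟨0, 0, 1, 0, 0, 0, 0, 0, 0, 0, 0, 0, 0, 0⟩,
    ⟨0, 0, 0, 1, 0, 0, 0, 0, 0, 0, 0, 0, 0, 0⟩,
    ⟨0, 0, 0, 0, 1, 0, 0, 0, 0, 0, 0, 0, 0, 0⟩,
    ⟨0, 0, 0, 0, 0, 1, 0, 0, 0, 0, 0, 0, 0, 0⟩,
    ⟨0, 0, 0, 0, 0, 0, 1, 0, 0, 0, 0, 0, 0, 0⟩,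
    ⟨0, 0, 0, 0, 0, 0, 0, 1, 0, 0, 0, 0, 0, 0⟩,
    ⟨0, 0, 0, 0, 0, 0, 0, 0, 1, 0, 0, 0, 0, 0⟩,
    ⟨0, 0, 0, 0, 0, 0, 0, 0, 0, 1, 0, 0, 0, 0⟩,
    ⟨0, 0, 0, 0, 0, 0, 0, 0, 0, 0, 1, 0, 0, 0⟩,
    ⟨0, 0, 0, 0, 0, 0, 0, 0, 0, 0, 0, 1, 0, 0⟩,
    ⟨0, 0, 0, 0, 0, 0, 0, 0, 0, 0, 0, 0, 1, 0⟩,
    ⟨0, 0, 0, 0, 0, 0, 0, 0, 0, 0, 0, 0, 0, 1⟩⟩

/-- The root elements with parameter `1`. -/
def xr1 : Fin 12 → M14 := ![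
  ⟨⟨1, 0, 0, 0, 0, 0, 0, 0, 0, 0, 0, 0, 0, 2⟩,
    ⟨0, 1, 0, 0, 0, 0, 0, 0, 0, 0, 0, 0, 0, 1⟩,
    ⟨0, 1, 1, 0, 0, 0, 0, 0, 0, 0, 0, 0, 0, 2⟩,
    ⟨0, 0, 0, 1, 0, 0, 0, 0, 1, 0, 0, 0, 0, 0⟩,
    ⟨0, 0, 0, 0, 1, 0, 0, 0, 0, 0, 1, 0, 0, 0⟩,
    ⟨0, 0, 0, 0, 0, 1, 0, 0, 0, 0, 0, 2, 0, 0⟩,
    ⟨0, 0, 0, 0, 0, 0, 1, 0, 0, 0, 0, 0, 0, 0⟩,
    ⟨0, 0, 0, 0, 0, 0, 0, 1, 0, 0, 0, 0, 2, 0⟩,
    ⟨0, 0, 0, 0, 0, 0, 0, 0, 1, 0, 0, 0, 0, 0⟩,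
    ⟨0, 0, 0, 0, 0, 0, 0, 0, 0, 1, 0, 0, 0, 0⟩,
    ⟨0, 0, 0, 0, 0, 0, 0, 0, 0, 0, 1, 0, 0, 0⟩,
    ⟨0, 0, 0, 0, 0, 0, 0, 0, 0, 0, 0, 1, 0, 0⟩,
    ⟨0, 0, 0, 0, 0, 0, 0, 0, 0, 0, 0, 0, 1, 0⟩,
    ⟨0, 0, 0, 0, 0, 0, 0, 0, 0, 0, 0, 0, 0, 1⟩⟩,
  ⟨⟨1, 0, 0, 0, 0, 0, 0, 0, 0, 0, 0, 0, 2, 0⟩,
    ⟨0, 1, 0, 0, 0, 0, 0, 0, 0, 0, 0, 0, 2, 0⟩,
    ⟨0, 0, 1, 0, 0, 0, 0, 1, 0, 0, 0, 0, 0, 0⟩,
    ⟨0, 2, 0, 1, 0, 0, 0, 0, 0, 0, 0, 0, 2, 0⟩,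
    ⟨0, 0, 0, 0, 1, 0, 0, 0, 0, 1, 0, 0, 0, 0⟩,
    ⟨0, 0, 0, 0, 0, 1, 0, 0, 0, 0, 0, 0, 0, 0⟩,
    ⟨0, 0, 0, 0, 0, 0, 1, 0, 0, 0, 0, 2, 0, 0⟩,
    ⟨0, 0, 0, 0, 0, 0, 0, 1, 0, 0, 0, 0, 0, 0⟩,
    ⟨0, 0, 0, 0, 0, 0, 0, 0, 1, 0, 0, 0, 0, 2⟩,
    ⟨0, 0, 0, 0, 0, 0, 0, 0, 0, 1, 0, 0, 0, 0⟩,
    ⟨0, 0, 0, 0, 0, 0, 0, 0, 0, 0, 1, 0, 0, 0⟩,
    ⟨0, 0, 0, 0, 0, 0, 0, 0, 0, 0, 0, 1, 0, 0⟩,
    ⟨0, 0, 0, 0, 0, 0, 0, 0, 0, 0, 0, 0, 1, 0⟩,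
    ⟨0, 0, 0, 0, 0, 0, 0, 0, 0, 0, 0, 0, 0, 1⟩⟩,
  ⟨⟨1, 0, 0, 0, 0, 0, 0, 0, 0, 0, 0, 1, 0, 0⟩,
    ⟨0, 1, 0, 0, 0, 0, 0, 0, 0, 0, 0, 0, 0, 0⟩,
    ⟨0, 0, 1, 0, 0, 0, 0, 0, 0, 0, 0, 0, 1, 0⟩,
    ⟨0, 0, 0, 1, 0, 0, 0, 0, 0, 0, 0, 0, 0, 2⟩,
    ⟨1, 0, 0, 0, 1, 0, 0, 0, 0, 0, 0, 2, 0, 0⟩,
    ⟨0, 0, 0, 0, 0, 1, 0, 0, 0, 1, 0, 0, 1, 0⟩,
    ⟨0, 0, 0, 0, 0, 0, 1, 0, 0, 0, 2, 0, 0, 2⟩,
    ⟨0, 0, 0, 0, 0, 0, 0, 1, 0, 0, 0, 0, 0, 0⟩,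
    ⟨0, 0, 0, 0, 0, 0, 0, 0, 1, 0, 0, 0, 0, 0⟩,
    ⟨0, 0, 0, 0, 0, 0, 0, 0, 0, 1, 0, 0, 2, 0⟩,
    ⟨0, 0, 0, 0, 0, 0, 0, 0, 0, 0, 1, 0, 0, 2⟩,
    ⟨0, 0, 0, 0, 0, 0, 0, 0, 0, 0, 0, 1, 0, 0⟩,
    ⟨0, 0, 0, 0, 0, 0, 0, 0, 0, 0, 0, 0, 1, 0⟩,
    ⟨0, 0, 0, 0, 0, 0, 0, 0, 0, 0, 0, 0, 0, 1⟩⟩,
  ⟨⟨1, 0, 0, 0, 0, 0, 0, 0, 0, 0, 2, 0, 0, 0⟩,
    ⟨0, 1, 0, 0, 0, 0, 0, 0, 0, 0, 0, 0, 0, 0⟩,
    ⟨0, 0, 1, 0, 0, 0, 0, 0, 1, 0, 0, 0, 0, 0⟩,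
    ⟨0, 0, 0, 1, 0, 0, 0, 0, 0, 0, 0, 0, 0, 0⟩,
    ⟨0, 0, 0, 0, 1, 0, 1, 0, 2, 0, 0, 0, 0, 0⟩,
    ⟨2, 1, 0, 0, 0, 1, 0, 0, 0, 0, 2, 0, 0, 0⟩,
    ⟨0, 0, 0, 0, 0, 0, 1, 0, 1, 0, 0, 0, 0, 0⟩,
    ⟨0, 0, 0, 0, 0, 0, 0, 1, 0, 0, 0, 0, 0, 2⟩,
    ⟨0, 0, 0, 0, 0, 0, 0, 0, 1, 0, 0, 0, 0, 0⟩,
    ⟨0, 0, 0, 0, 0, 0, 0, 0, 0, 1, 0, 2, 0, 1⟩,
    ⟨0, 0, 0, 0, 0, 0, 0, 0, 0, 0, 1, 0, 0, 0⟩,
    ⟨0, 0, 0, 0, 0, 0, 0, 0, 0, 0, 0, 1, 0, 1⟩,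
    ⟨0, 0, 0, 0, 0, 0, 0, 0, 0, 0, 0, 0, 1, 0⟩,
    ⟨0, 0, 0, 0, 0, 0, 0, 0, 0, 0, 0, 0, 0, 1⟩⟩,
  ⟨⟨1, 0, 0, 0, 0, 0, 0, 0, 0, 2, 0, 0, 0, 0⟩,
    ⟨0, 1, 0, 0, 0, 0, 0, 0, 0, 0, 0, 0, 0, 0⟩,
    ⟨0, 0, 1, 0, 0, 0, 0, 0, 0, 0, 0, 0, 0, 0⟩,
    ⟨0, 0, 0, 1, 0, 0, 0, 2, 0, 0, 0, 0, 0, 0⟩,
    ⟨0, 0, 0, 0, 1, 2, 0, 1, 0, 0, 0, 0, 0, 0⟩,
    ⟨0, 0, 0, 0, 0, 1, 0, 1, 0, 0, 0, 0, 0, 0⟩,
    ⟨2, 2, 0, 0, 0, 0, 1, 0, 0, 2, 0, 0, 0, 0⟩,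
    ⟨0, 0, 0, 0, 0, 0, 0, 1, 0, 0, 0, 0, 0, 0⟩,
    ⟨0, 0, 0, 0, 0, 0, 0, 0, 1, 0, 0, 0, 1, 0⟩,
    ⟨0, 0, 0, 0, 0, 0, 0, 0, 0, 1, 0, 0, 0, 0⟩,
    ⟨0, 0, 0, 0, 0, 0, 0, 0, 0, 0, 1, 1, 2, 0⟩,
    ⟨0, 0, 0, 0, 0, 0, 0, 0, 0, 0, 0, 1, 1, 0⟩,
    ⟨0, 0, 0, 0, 0, 0, 0, 0, 0, 0, 0, 0, 1, 0⟩,
    ⟨0, 0, 0, 0, 0, 0, 0, 0, 0, 0, 0, 0, 0, 1⟩⟩,
  ⟨⟨1, 0, 0, 0, 0, 0, 0, 0, 0, 0, 0, 0, 0, 0⟩,
    ⟨0, 1, 0, 0, 0, 0, 0, 0, 2, 0, 0, 0, 0, 0⟩,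
    ⟨0, 0, 1, 2, 0, 0, 0, 0, 0, 0, 0, 0, 0, 0⟩,
    ⟨0, 0, 0, 1, 0, 0, 0, 0, 0, 0, 0, 0, 0, 0⟩,
    ⟨0, 0, 0, 0, 1, 0, 0, 0, 0, 0, 0, 0, 0, 0⟩,
    ⟨0, 0, 0, 0, 0, 1, 2, 0, 0, 0, 0, 0, 0, 0⟩,
    ⟨0, 0, 0, 0, 0, 0, 1, 0, 0, 0, 0, 0, 0, 0⟩,
    ⟨0, 2, 0, 0, 0, 0, 0, 1, 2, 0, 0, 0, 0, 0⟩,
    ⟨0, 0, 0, 0, 0, 0, 0, 0, 1, 0, 0, 0, 0, 0⟩,
    ⟨0, 0, 0, 0, 0, 0, 0, 0, 0, 1, 1, 0, 0, 0⟩,
    ⟨0, 0, 0, 0, 0, 0, 0, 0, 0, 0, 1, 0, 0, 0⟩,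
    ⟨0, 0, 0, 0, 0, 0, 0, 0, 0, 0, 0, 1, 0, 0⟩,
    ⟨0, 0, 0, 0, 0, 0, 0, 0, 0, 0, 0, 0, 1, 1⟩,
    ⟨0, 0, 0, 0, 0, 0, 0, 0, 0, 0, 0, 0, 0, 1⟩⟩,
  ⟨⟨1, 0, 0, 0, 0, 0, 0, 0, 0, 0, 0, 0, 0, 0⟩,
    ⟨0, 1, 0, 0, 0, 0, 0, 1, 0, 0, 0, 0, 0, 0⟩,
    ⟨0, 0, 1, 0, 0, 0, 0, 0, 0, 0, 0, 0, 0, 0⟩,
    ⟨0, 0, 2, 1, 0, 0, 0, 0, 0, 0, 0, 0, 0, 0⟩,
    ⟨0, 0, 0, 0, 1, 0, 0, 0, 0, 0, 0, 0, 0, 0⟩,
    ⟨0, 0, 0, 0, 0, 1, 0, 0, 0, 0, 0, 0, 0, 0⟩,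
    ⟨0, 0, 0, 0, 0, 2, 1, 0, 0, 0, 0, 0, 0, 0⟩,
    ⟨0, 0, 0, 0, 0, 0, 0, 1, 0, 0, 0, 0, 0, 0⟩,
    ⟨0, 1, 0, 0, 0, 0, 0, 2, 1, 0, 0, 0, 0, 0⟩,
    ⟨0, 0, 0, 0, 0, 0, 0, 0, 0, 1, 0, 0, 0, 0⟩,
    ⟨0, 0, 0, 0, 0, 0, 0, 0, 0, 1, 1, 0, 0, 0⟩,
    ⟨0, 0, 0, 0, 0, 0, 0, 0, 0, 0, 0, 1, 0, 0⟩,
    ⟨0, 0, 0, 0, 0, 0, 0, 0, 0, 0, 0, 0, 1, 0⟩,
    ⟨0, 0, 0, 0, 0, 0, 0, 0, 0, 0, 0, 0, 1, 1⟩⟩,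
  ⟨⟨1, 0, 0, 0, 0, 0, 1, 0, 0, 0, 0, 0, 0, 0⟩,
    ⟨0, 1, 0, 0, 0, 0, 0, 0, 0, 0, 0, 0, 0, 0⟩,
    ⟨0, 0, 1, 0, 0, 0, 0, 0, 0, 0, 0, 0, 0, 0⟩,
    ⟨0, 0, 0, 1, 0, 0, 0, 0, 0, 0, 0, 0, 0, 0⟩,
    ⟨0, 0, 0, 2, 1, 0, 0, 0, 0, 0, 0, 0, 0, 0⟩,
    ⟨0, 0, 0, 2, 2, 1, 0, 0, 0, 0, 0, 0, 0, 0⟩,
    ⟨0, 0, 0, 0, 0, 0, 1, 0, 0, 0, 0, 0, 0, 0⟩,
    ⟨0, 0, 0, 2, 0, 0, 0, 1, 0, 0, 0, 0, 0, 0⟩,
    ⟨0, 0, 0, 0, 0, 0, 0, 0, 1, 0, 0, 0, 0, 0⟩,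
    ⟨1, 1, 0, 0, 0, 0, 2, 0, 0, 1, 0, 0, 0, 0⟩,
    ⟨0, 0, 0, 0, 0, 0, 0, 0, 2, 0, 1, 0, 0, 0⟩,
    ⟨0, 0, 0, 0, 0, 0, 0, 0, 1, 0, 1, 1, 0, 0⟩,
    ⟨0, 0, 0, 0, 0, 0, 0, 0, 1, 0, 0, 0, 1, 0⟩,
    ⟨0, 0, 0, 0, 0, 0, 0, 0, 0, 0, 0, 0, 0, 1⟩⟩,
  ⟨⟨1, 0, 0, 0, 0, 1, 0, 0, 0, 0, 0, 0, 0, 0⟩,
    ⟨0, 1, 0, 0, 0, 0, 0, 0, 0, 0, 0, 0, 0, 0⟩,
    ⟨0, 0, 1, 0, 0, 0, 0, 0, 0, 0, 0, 0, 0, 0⟩,
    ⟨0, 0, 0, 1, 0, 0, 0, 0, 0, 0, 0, 0, 0, 0⟩,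
    ⟨0, 0, 2, 0, 1, 0, 0, 0, 0, 0, 0, 0, 0, 0⟩,
    ⟨0, 0, 0, 0, 0, 1, 0, 0, 0, 0, 0, 0, 0, 0⟩,
    ⟨0, 0, 1, 0, 1, 0, 1, 0, 0, 0, 0, 0, 0, 0⟩,
    ⟨0, 0, 0, 0, 0, 0, 0, 1, 0, 0, 0, 0, 0, 0⟩,
    ⟨0, 0, 1, 0, 0, 0, 0, 0, 1, 0, 0, 0, 0, 0⟩,
    ⟨0, 0, 0, 0, 0, 0, 0, 2, 0, 1, 0, 0, 0, 0⟩,
    ⟨1, 2, 0, 0, 0, 2, 0, 0, 0, 0, 1, 0, 0, 0⟩,
    ⟨0, 0, 0, 0, 0, 0, 0, 2, 0, 2, 0, 1, 0, 0⟩,
    ⟨0, 0, 0, 0, 0, 0, 0, 0, 0, 0, 0, 0, 1, 0⟩,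
    ⟨0, 0, 0, 0, 0, 0, 0, 2, 0, 0, 0, 0, 0, 1⟩⟩,
  ⟨⟨1, 0, 0, 0, 2, 0, 0, 0, 0, 0, 0, 0, 0, 0⟩,
    ⟨0, 1, 0, 0, 0, 0, 0, 0, 0, 0, 0, 0, 0, 0⟩,
    ⟨0, 0, 1, 0, 0, 0, 0, 0, 0, 0, 0, 0, 0, 0⟩,
    ⟨0, 0, 0, 1, 0, 0, 0, 0, 0, 0, 0, 0, 0, 0⟩,
    ⟨0, 0, 0, 0, 1, 0, 0, 0, 0, 0, 0, 0, 0, 0⟩,
    ⟨0, 0, 1, 0, 0, 1, 0, 0, 0, 0, 0, 0, 0, 0⟩,
    ⟨0, 0, 0, 1, 0, 0, 1, 0, 0, 0, 0, 0, 0, 0⟩,
    ⟨0, 0, 0, 0, 0, 0, 0, 1, 0, 0, 0, 0, 0, 0⟩,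
    ⟨0, 0, 0, 0, 0, 0, 0, 0, 1, 0, 0, 0, 0, 0⟩,
    ⟨0, 0, 2, 0, 0, 1, 0, 0, 0, 1, 0, 0, 0, 0⟩,
    ⟨0, 0, 0, 1, 0, 0, 2, 0, 0, 0, 1, 0, 0, 0⟩,
    ⟨2, 0, 0, 0, 2, 0, 0, 0, 0, 0, 0, 1, 0, 0⟩,
    ⟨0, 0, 1, 0, 0, 0, 0, 0, 0, 0, 0, 0, 1, 0⟩,
    ⟨0, 0, 0, 2, 0, 0, 0, 0, 0, 0, 0, 0, 0, 1⟩⟩,
  ⟨⟨1, 0, 0, 1, 0, 0, 0, 0, 0, 0, 0, 0, 0, 0⟩,
    ⟨0, 1, 0, 1, 0, 0, 0, 0, 0, 0, 0, 0, 0, 0⟩,
    ⟨0, 0, 1, 0, 0, 0, 0, 0, 0, 0, 0, 0, 0, 0⟩,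
    ⟨0, 0, 0, 1, 0, 0, 0, 0, 0, 0, 0, 0, 0, 0⟩,
    ⟨0, 0, 0, 0, 1, 0, 0, 0, 0, 0, 0, 0, 0, 0⟩,
    ⟨0, 0, 0, 0, 0, 1, 0, 0, 0, 0, 0, 0, 0, 0⟩,
    ⟨0, 0, 0, 0, 0, 0, 1, 0, 0, 0, 0, 0, 0, 0⟩,
    ⟨0, 0, 1, 0, 0, 0, 0, 1, 0, 0, 0, 0, 0, 0⟩,
    ⟨0, 0, 0, 0, 0, 0, 0, 0, 1, 0, 0, 0, 0, 0⟩,
    ⟨0, 0, 0, 0, 1, 0, 0, 0, 0, 1, 0, 0, 0, 0⟩,
    ⟨0, 0, 0, 0, 0, 0, 0, 0, 0, 0, 1, 0, 0, 0⟩,
    ⟨0, 0, 0, 0, 0, 0, 2, 0, 0, 0, 0, 1, 0, 0⟩,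
    ⟨0, 1, 0, 2, 0, 0, 0, 0, 0, 0, 0, 0, 1, 0⟩,
    ⟨0, 0, 0, 0, 0, 0, 0, 0, 2, 0, 0, 0, 0, 1⟩⟩,
  ⟨⟨1, 0, 1, 0, 0, 0, 0, 0, 0, 0, 0, 0, 0, 0⟩,
    ⟨0, 1, 2, 0, 0, 0, 0, 0, 0, 0, 0, 0, 0, 0⟩,
    ⟨0, 0, 1, 0, 0, 0, 0, 0, 0, 0, 0, 0, 0, 0⟩,
    ⟨0, 0, 0, 1, 0, 0, 0, 0, 0, 0, 0, 0, 0, 0⟩,
    ⟨0, 0, 0, 0, 1, 0, 0, 0, 0, 0, 0, 0, 0, 0⟩,
    ⟨0, 0, 0, 0, 0, 1, 0, 0, 0, 0, 0, 0, 0, 0⟩,
    ⟨0, 0, 0, 0, 0, 0, 1, 0, 0, 0, 0, 0, 0, 0⟩,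
    ⟨0, 0, 0, 0, 0, 0, 0, 1, 0, 0, 0, 0, 0, 0⟩,
    ⟨0, 0, 0, 1, 0, 0, 0, 0, 1, 0, 0, 0, 0, 0⟩,
    ⟨0, 0, 0, 0, 0, 0, 0, 0, 0, 1, 0, 0, 0, 0⟩,
    ⟨0, 0, 0, 0, 1, 0, 0, 0, 0, 0, 1, 0, 0, 0⟩,
    ⟨0, 0, 0, 0, 0, 2, 0, 0, 0, 0, 0, 1, 0, 0⟩,
    ⟨0, 0, 0, 0, 0, 0, 0, 2, 0, 0, 0, 0, 1, 0⟩,
    ⟨0, 2, 2, 0, 0, 0, 0, 0, 0, 0, 0, 0, 0, 1⟩⟩]

/-- The root elements with parameter `2`. -/
def xr2 : Fin 12 → M14 := ![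
  ⟨⟨1, 0, 0, 0, 0, 0, 0, 0, 0, 0, 0, 0, 0, 1⟩,
    ⟨0, 1, 0, 0, 0, 0, 0, 0, 0, 0, 0, 0, 0, 2⟩,
    ⟨0, 2, 1, 0, 0, 0, 0, 0, 0, 0, 0, 0, 0, 2⟩,
    ⟨0, 0, 0, 1, 0, 0, 0, 0, 2, 0, 0, 0, 0, 0⟩,
    ⟨0, 0, 0, 0, 1, 0, 0, 0, 0, 0, 2, 0, 0, 0⟩,
    ⟨0, 0, 0, 0, 0, 1, 0, 0, 0, 0, 0, 1, 0, 0⟩,
    ⟨0, 0, 0, 0, 0, 0, 1, 0, 0, 0, 0, 0, 0, 0⟩,
    ⟨0, 0, 0, 0, 0, 0, 0, 1, 0, 0, 0, 0, 1, 0⟩,
    ⟨0, 0, 0, 0, 0, 0, 0, 0, 1, 0, 0, 0, 0, 0⟩,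
    ⟨0, 0, 0, 0, 0, 0, 0, 0, 0, 1, 0, 0, 0, 0⟩,
    ⟨0, 0, 0, 0, 0, 0, 0, 0, 0, 0, 1, 0, 0, 0⟩,
    ⟨0, 0, 0, 0, 0, 0, 0, 0, 0, 0, 0, 1, 0, 0⟩,
    ⟨0, 0, 0, 0, 0, 0, 0, 0, 0, 0, 0, 0, 1, 0⟩,
    ⟨0, 0, 0, 0, 0, 0, 0, 0, 0, 0, 0, 0, 0, 1⟩⟩,
  ⟨⟨1, 0, 0, 0, 0, 0, 0, 0, 0, 0, 0, 0, 1, 0⟩,
    ⟨0, 1, 0, 0, 0, 0, 0, 0, 0, 0, 0, 0, 1, 0⟩,
    ⟨0, 0, 1, 0, 0, 0, 0, 2, 0, 0, 0, 0, 0, 0⟩,
    ⟨0, 1, 0, 1, 0, 0, 0, 0, 0, 0, 0, 0, 2, 0⟩,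
    ⟨0, 0, 0, 0, 1, 0, 0, 0, 0, 2, 0, 0, 0, 0⟩,
    ⟨0, 0, 0, 0, 0, 1, 0, 0, 0, 0, 0, 0, 0, 0⟩,
    ⟨0, 0, 0, 0, 0, 0, 1, 0, 0, 0, 0, 1, 0, 0⟩,
    ⟨0, 0, 0, 0, 0, 0, 0, 1, 0, 0, 0, 0, 0, 0⟩,
    ⟨0, 0, 0, 0, 0, 0, 0, 0, 1, 0, 0, 0, 0, 1⟩,
    ⟨0, 0, 0, 0, 0, 0, 0, 0, 0, 1, 0, 0, 0, 0⟩,
    ⟨0, 0, 0, 0, 0, 0, 0, 0, 0, 0, 1, 0, 0, 0⟩,
    ⟨0, 0, 0, 0, 0, 0, 0, 0, 0, 0, 0, 1, 0, 0⟩,
    ⟨0, 0, 0, 0, 0, 0, 0, 0, 0, 0, 0, 0, 1, 0⟩,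
    ⟨0, 0, 0, 0, 0, 0, 0, 0, 0, 0, 0, 0, 0, 1⟩⟩,
  ⟨⟨1, 0, 0, 0, 0, 0, 0, 0, 0, 0, 0, 2, 0, 0⟩,
    ⟨0, 1, 0, 0, 0, 0, 0, 0, 0, 0, 0, 0, 0, 0⟩,
    ⟨0, 0, 1, 0, 0, 0, 0, 0, 0, 0, 0, 0, 2, 0⟩,
    ⟨0, 0, 0, 1, 0, 0, 0, 0, 0, 0, 0, 0, 0, 1⟩,
    ⟨2, 0, 0, 0, 1, 0, 0, 0, 0, 0, 0, 2, 0, 0⟩,
    ⟨0, 0, 0, 0, 0, 1, 0, 0, 0, 2, 0, 0, 1, 0⟩,
    ⟨0, 0, 0, 0, 0, 0, 1, 0, 0, 0, 1, 0, 0, 2⟩,
    ⟨0, 0, 0, 0, 0, 0, 0, 1, 0, 0, 0, 0, 0, 0⟩,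
    ⟨0, 0, 0, 0, 0, 0, 0, 0, 1, 0, 0, 0, 0, 0⟩,
    ⟨0, 0, 0, 0, 0, 0, 0, 0, 0, 1, 0, 0, 1, 0⟩,
    ⟨0, 0, 0, 0, 0, 0, 0, 0, 0, 0, 1, 0, 0, 1⟩,
    ⟨0, 0, 0, 0, 0, 0, 0, 0, 0, 0, 0, 1, 0, 0⟩,
    ⟨0, 0, 0, 0, 0, 0, 0, 0, 0, 0, 0, 0, 1, 0⟩,
    ⟨0, 0, 0, 0, 0, 0, 0, 0, 0, 0, 0, 0, 0, 1⟩⟩,
  ⟨⟨1, 0, 0, 0, 0, 0, 0, 0, 0, 0, 1, 0, 0, 0⟩,
    ⟨0, 1, 0, 0, 0, 0, 0, 0, 0, 0, 0, 0, 0, 0⟩,
    ⟨0, 0, 1, 0, 0, 0, 0, 0, 2, 0, 0, 0, 0, 0⟩,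
    ⟨0, 0, 0, 1, 0, 0, 0, 0, 0, 0, 0, 0, 0, 0⟩,
    ⟨0, 0, 0, 0, 1, 0, 2, 0, 2, 0, 0, 0, 0, 0⟩,
    ⟨1, 2, 0, 0, 0, 1, 0, 0, 0, 0, 2, 0, 0, 0⟩,
    ⟨0, 0, 0, 0, 0, 0, 1, 0, 2, 0, 0, 0, 0, 0⟩,
    ⟨0, 0, 0, 0, 0, 0, 0, 1, 0, 0, 0, 0, 0, 1⟩,
    ⟨0, 0, 0, 0, 0, 0, 0, 0, 1, 0, 0, 0, 0, 0⟩,
    ⟨0, 0, 0, 0, 0, 0, 0, 0, 0, 1, 0, 1, 0, 1⟩,
    ⟨0, 0, 0, 0, 0, 0, 0, 0, 0, 0, 1, 0, 0, 0⟩,
    ⟨0, 0, 0, 0, 0, 0, 0, 0, 0, 0, 0, 1, 0, 2⟩,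
    ⟨0, 0, 0, 0, 0, 0, 0, 0, 0, 0, 0, 0, 1, 0⟩,
    ⟨0, 0, 0, 0, 0, 0, 0, 0, 0, 0, 0, 0, 0, 1⟩⟩,
  ⟨⟨1, 0, 0, 0, 0, 0, 0, 0, 0, 1, 0, 0, 0, 0⟩,
    ⟨0, 1, 0, 0, 0, 0, 0, 0, 0, 0, 0, 0, 0, 0⟩,
    ⟨0, 0, 1, 0, 0, 0, 0, 0, 0, 0, 0, 0, 0, 0⟩,
    ⟨0, 0, 0, 1, 0, 0, 0, 1, 0, 0, 0, 0, 0, 0⟩,
    ⟨0, 0, 0, 0, 1, 1, 0, 1, 0, 0, 0, 0, 0, 0⟩,
    ⟨0, 0, 0, 0, 0, 1, 0, 2, 0, 0, 0, 0, 0, 0⟩,
    ⟨1, 1, 0, 0, 0, 0, 1, 0, 0, 2, 0, 0, 0, 0⟩,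
    ⟨0, 0, 0, 0, 0, 0, 0, 1, 0, 0, 0, 0, 0, 0⟩,
    ⟨0, 0, 0, 0, 0, 0, 0, 0, 1, 0, 0, 0, 2, 0⟩,
    ⟨0, 0, 0, 0, 0, 0, 0, 0, 0, 1, 0, 0, 0, 0⟩,
    ⟨0, 0, 0, 0, 0, 0, 0, 0, 0, 0, 1, 2, 2, 0⟩,
    ⟨0, 0, 0, 0, 0, 0, 0, 0, 0, 0, 0, 1, 2, 0⟩,
    ⟨0, 0, 0, 0, 0, 0, 0, 0, 0, 0, 0, 0, 1, 0⟩,
    ⟨0, 0, 0, 0, 0, 0, 0, 0, 0, 0, 0, 0, 0, 1⟩⟩,
  ⟨⟨1, 0, 0, 0, 0, 0, 0, 0, 0, 0, 0, 0, 0, 0⟩,
    ⟨0, 1, 0, 0, 0, 0, 0, 0, 1, 0, 0, 0, 0, 0⟩,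
    ⟨0, 0, 1, 1, 0, 0, 0, 0, 0, 0, 0, 0, 0, 0⟩,
    ⟨0, 0, 0, 1, 0, 0, 0, 0, 0, 0, 0, 0, 0, 0⟩,
    ⟨0, 0, 0, 0, 1, 0, 0, 0, 0, 0, 0, 0, 0, 0⟩,
    ⟨0, 0, 0, 0, 0, 1, 1, 0, 0, 0, 0, 0, 0, 0⟩,
    ⟨0, 0, 0, 0, 0, 0, 1, 0, 0, 0, 0, 0, 0, 0⟩,
    ⟨0, 1, 0, 0, 0, 0, 0, 1, 2, 0, 0, 0, 0, 0⟩,
    ⟨0, 0, 0, 0, 0, 0, 0, 0, 1, 0, 0, 0, 0, 0⟩,
    ⟨0, 0, 0, 0, 0, 0, 0, 0, 0, 1, 2, 0, 0, 0⟩,
    ⟨0, 0, 0, 0, 0, 0, 0, 0, 0, 0, 1, 0, 0, 0⟩,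
    ⟨0, 0, 0, 0, 0, 0, 0, 0, 0, 0, 0, 1, 0, 0⟩,
    ⟨0, 0, 0, 0, 0, 0, 0, 0, 0, 0, 0, 0, 1, 2⟩,
    ⟨0, 0, 0, 0, 0, 0, 0, 0, 0, 0, 0, 0, 0, 1⟩⟩,
  ⟨⟨1, 0, 0, 0, 0, 0, 0, 0, 0, 0, 0, 0, 0, 0⟩,
    ⟨0, 1, 0, 0, 0, 0, 0, 2, 0, 0, 0, 0, 0, 0⟩,
    ⟨0, 0, 1, 0, 0, 0, 0, 0, 0, 0, 0, 0, 0, 0⟩,
    ⟨0, 0, 1, 1, 0, 0, 0, 0, 0, 0, 0, 0, 0, 0⟩,
    ⟨0, 0, 0, 0, 1, 0, 0, 0, 0, 0, 0, 0, 0, 0⟩,
    ⟨0, 0, 0, 0, 0, 1, 0, 0, 0, 0, 0, 0, 0, 0⟩,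
    ⟨0, 0, 0, 0, 0, 1, 1, 0, 0, 0, 0, 0, 0, 0⟩,
    ⟨0, 0, 0, 0, 0, 0, 0, 1, 0, 0, 0, 0, 0, 0⟩,
    ⟨0, 2, 0, 0, 0, 0, 0, 2, 1, 0, 0, 0, 0, 0⟩,
    ⟨0, 0, 0, 0, 0, 0, 0, 0, 0, 1, 0, 0, 0, 0⟩,
    ⟨0, 0, 0, 0, 0, 0, 0, 0, 0, 2, 1, 0, 0, 0⟩,
    ⟨0, 0, 0, 0, 0, 0, 0, 0, 0, 0, 0, 1, 0, 0⟩,
    ⟨0, 0, 0, 0, 0, 0, 0, 0, 0, 0, 0, 0, 1, 0⟩,
    ⟨0, 0, 0, 0, 0, 0, 0, 0, 0, 0, 0, 0, 2, 1⟩⟩,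
  ⟨⟨1, 0, 0, 0, 0, 0, 2, 0, 0, 0, 0, 0, 0, 0⟩,
    ⟨0, 1, 0, 0, 0, 0, 0, 0, 0, 0, 0, 0, 0, 0⟩,
    ⟨0, 0, 1, 0, 0, 0, 0, 0, 0, 0, 0, 0, 0, 0⟩,
    ⟨0, 0, 0, 1, 0, 0, 0, 0, 0, 0, 0, 0, 0, 0⟩,
    ⟨0, 0, 0, 1, 1, 0, 0, 0, 0, 0, 0, 0, 0, 0⟩,
    ⟨0, 0, 0, 2, 1, 1, 0, 0, 0, 0, 0, 0, 0, 0⟩,
    ⟨0, 0, 0, 0, 0, 0, 1, 0, 0, 0, 0, 0, 0, 0⟩,
    ⟨0, 0, 0, 1, 0, 0, 0, 1, 0, 0, 0, 0, 0, 0⟩,
    ⟨0, 0, 0, 0, 0, 0, 0, 0, 1, 0, 0, 0, 0, 0⟩,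
    ⟨2, 2, 0, 0, 0, 0, 2, 0, 0, 1, 0, 0, 0, 0⟩,
    ⟨0, 0, 0, 0, 0, 0, 0, 0, 1, 0, 1, 0, 0, 0⟩,
    ⟨0, 0, 0, 0, 0, 0, 0, 0, 1, 0, 2, 1, 0, 0⟩,
    ⟨0, 0, 0, 0, 0, 0, 0, 0, 2, 0, 0, 0, 1, 0⟩,
    ⟨0, 0, 0, 0, 0, 0, 0, 0, 0, 0, 0, 0, 0, 1⟩⟩,
  ⟨⟨1, 0, 0, 0, 0, 2, 0, 0, 0, 0, 0, 0, 0, 0⟩,
    ⟨0, 1, 0, 0, 0, 0, 0, 0, 0, 0, 0, 0, 0, 0⟩,
    ⟨0, 0, 1, 0, 0, 0, 0, 0, 0, 0, 0, 0, 0, 0⟩,
    ⟨0, 0, 0, 1, 0, 0, 0, 0, 0, 0, 0, 0, 0, 0⟩,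
    ⟨0, 0, 1, 0, 1, 0, 0, 0, 0, 0, 0, 0, 0, 0⟩,
    ⟨0, 0, 0, 0, 0, 1, 0, 0, 0, 0, 0, 0, 0, 0⟩,
    ⟨0, 0, 1, 0, 2, 0, 1, 0, 0, 0, 0, 0, 0, 0⟩,
    ⟨0, 0, 0, 0, 0, 0, 0, 1, 0, 0, 0, 0, 0, 0⟩,
    ⟨0, 0, 2, 0, 0, 0, 0, 0, 1, 0, 0, 0, 0, 0⟩,
    ⟨0, 0, 0, 0, 0, 0, 0, 1, 0, 1, 0, 0, 0, 0⟩,
    ⟨2, 1, 0, 0, 0, 2, 0, 0, 0, 0, 1, 0, 0, 0⟩,
    ⟨0, 0, 0, 0, 0, 0, 0, 2, 0, 1, 0, 1, 0, 0⟩,
    ⟨0, 0, 0, 0, 0, 0, 0, 0, 0, 0, 0, 0, 1, 0⟩,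
    ⟨0, 0, 0, 0, 0, 0, 0, 1, 0, 0, 0, 0, 0, 1⟩⟩,
  ⟨⟨1, 0, 0, 0, 1, 0, 0, 0, 0, 0, 0, 0, 0, 0⟩,
    ⟨0, 1, 0, 0, 0, 0, 0, 0, 0, 0, 0, 0, 0, 0⟩,
    ⟨0, 0, 1, 0, 0, 0, 0, 0, 0, 0, 0, 0, 0, 0⟩,
    ⟨0, 0, 0, 1, 0, 0, 0, 0, 0, 0, 0, 0, 0, 0⟩,
    ⟨0, 0, 0, 0, 1, 0, 0, 0, 0, 0, 0, 0, 0, 0⟩,
    ⟨0, 0, 2, 0, 0, 1, 0, 0, 0, 0, 0, 0, 0, 0⟩,
    ⟨0, 0, 0, 2, 0, 0, 1, 0, 0, 0, 0, 0, 0, 0⟩,
    ⟨0, 0, 0, 0, 0, 0, 0, 1, 0, 0, 0, 0, 0, 0⟩,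
    ⟨0, 0, 0, 0, 0, 0, 0, 0, 1, 0, 0, 0, 0, 0⟩,
    ⟨0, 0, 2, 0, 0, 2, 0, 0, 0, 1, 0, 0, 0, 0⟩,
    ⟨0, 0, 0, 1, 0, 0, 1, 0, 0, 0, 1, 0, 0, 0⟩,
    ⟨1, 0, 0, 0, 2, 0, 0, 0, 0, 0, 0, 1, 0, 0⟩,
    ⟨0, 0, 2, 0, 0, 0, 0, 0, 0, 0, 0, 0, 1, 0⟩,
    ⟨0, 0, 0, 1, 0, 0, 0, 0, 0, 0, 0, 0, 0, 1⟩⟩,
  ⟨⟨1, 0, 0, 2, 0, 0, 0, 0, 0, 0, 0, 0, 0, 0⟩,
    ⟨0, 1, 0, 2, 0, 0, 0, 0, 0, 0, 0, 0, 0, 0⟩,
    ⟨0, 0, 1, 0, 0, 0, 0, 0, 0, 0, 0, 0, 0, 0⟩,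
    ⟨0, 0, 0, 1, 0, 0, 0, 0, 0, 0, 0, 0, 0, 0⟩,
    ⟨0, 0, 0, 0, 1, 0, 0, 0, 0, 0, 0, 0, 0, 0⟩,
    ⟨0, 0, 0, 0, 0, 1, 0, 0, 0, 0, 0, 0, 0, 0⟩,
    ⟨0, 0, 0, 0, 0, 0, 1, 0, 0, 0, 0, 0, 0, 0⟩,
    ⟨0, 0, 2, 0, 0, 0, 0, 1, 0, 0, 0, 0, 0, 0⟩,
    ⟨0, 0, 0, 0, 0, 0, 0, 0, 1, 0, 0, 0, 0, 0⟩,
    ⟨0, 0, 0, 0, 2, 0, 0, 0, 0, 1, 0, 0, 0, 0⟩,
    ⟨0, 0, 0, 0, 0, 0, 0, 0, 0, 0, 1, 0, 0, 0⟩,
    ⟨0, 0, 0, 0, 0, 0, 1, 0, 0, 0, 0, 1, 0, 0⟩,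
    ⟨0, 2, 0, 2, 0, 0, 0, 0, 0, 0, 0, 0, 1, 0⟩,
    ⟨0, 0, 0, 0, 0, 0, 0, 0, 1, 0, 0, 0, 0, 1⟩⟩,
  ⟨⟨1, 0, 2, 0, 0, 0, 0, 0, 0, 0, 0, 0, 0, 0⟩,
    ⟨0, 1, 1, 0, 0, 0, 0, 0, 0, 0, 0, 0, 0, 0⟩,
    ⟨0, 0, 1, 0, 0, 0, 0, 0, 0, 0, 0, 0, 0, 0⟩,
    ⟨0, 0, 0, 1, 0, 0, 0, 0, 0, 0, 0, 0, 0, 0⟩,
    ⟨0, 0, 0, 0, 1, 0, 0, 0, 0, 0, 0, 0, 0, 0⟩,
    ⟨0, 0, 0, 0, 0, 1, 0, 0, 0, 0, 0, 0, 0, 0⟩,
    ⟨0, 0, 0, 0, 0, 0, 1, 0, 0, 0, 0, 0, 0, 0⟩,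
    ⟨0, 0, 0, 0, 0, 0, 0, 1, 0, 0, 0, 0, 0, 0⟩,
    ⟨0, 0, 0, 2, 0, 0, 0, 0, 1, 0, 0, 0, 0, 0⟩,
    ⟨0, 0, 0, 0, 0, 0, 0, 0, 0, 1, 0, 0, 0, 0⟩,
    ⟨0, 0, 0, 0, 2, 0, 0, 0, 0, 0, 1, 0, 0, 0⟩,
    ⟨0, 0, 0, 0, 0, 1, 0, 0, 0, 0, 0, 1, 0, 0⟩,
    ⟨0, 0, 0, 0, 0, 0, 0, 1, 0, 0, 0, 0, 1, 0⟩,
    ⟨0, 1, 2, 0, 0, 0, 0, 0, 0, 0, 0, 0, 0, 1⟩⟩]

/-- The rows of the root elements. -/
def xr (p : Fin 12 × ZMod 3) : M14 :=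
  match p.2 with
  | 0 => idM
  | 1 => xr1 p.1
  | 2 => xr2 p.1

/-- The rows of the inverses of the root elements. -/
def xri (p : Fin 12 × ZMod 3) : M14 :=
  match p.2 with
  | 0 => idM
  | 1 => xr2 p.1
  | 2 => xr1 p.1

/-- The root elements with parameter `1` as words in the generators. -/
def rw1 : Fin 12 → FreeGroup (Fin 3) := ![
  FreeGroup.mk [((0 : Fin 3), true), ((1 : Fin 3), false), ((0 : Fin 3), true), ((1 : Fin 3), true), ((0 : Fin 3), true), ((1 : Fin 3), false), ((0 : Fin 3), true), ((1 : Fin 3), true), ((0 : Fin 3), true), ((1 : Fin 3), false), ((0 : Fin 3), true), ((1 : Fin 3), false), ((0 : Fin 3), true), ((1 : Fin 3), true), ((0 : Fin 3), true), ((1 : Fin 3), true), ((0 : Fin 3), true), ((1 : Fin 3), false), ((0 : Fin 3), true), ((1 : Fin 3),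 false), ((0 : Fin 3), true), ((1 : Fin 3), true), ((0 : Fin 3), true), ((1 : Fin 3), false), ((0 : Fin 3), true), ((1 : Fin 3), false), ((0 : Fin 3), true), ((1 : Fin 3), true), ((0 : Fin 3), true), ((1 : Fin 3), true), ((0 : Fin 3), true), ((1 : Fin 3), true), ((0 : Fin 3), true), ((1 : Fin 3), true), ((0 : Fin 3), true)],
  FreeGroup.mk [((0 : Fin 3), true), ((1 : Fin 3), false), ((0 : Fin 3), true), ((1 : Fin 3), false), ((0 : Fin 3), true), ((1 : Fin 3), true), ((0 : Fin 3), true), ((1 : Fin 3), true), ((0 : Fin 3), true), ((1 : Fin 3), false), ((0 : Fin 3), true), ((1 : Fin 3), false), ((0 : Fin 3), true), ((1 : Fin 3), false), ((0 : Fin 3), true), ((1 : Fin 3), false), ((0 : Fin 3), true), ((1 : Fin 3), false), ((0 : Fin 3), true), ((1 : Fin 3), true), ((0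 : Fin 3), true), ((1 : Fin 3), false), ((0 : Fin 3), true), ((1 : Fin 3), false), ((0 : Fin 3), true), ((1 : Fin 3), false), ((0 : Fin 3), true), ((1 : Fin 3), true), ((0 : Fin 3), true), ((1 : Fin 3), true), ((0 : Fin 3), true), ((1 : Fin 3), false), ((0 : Fin 3), true), ((1 : Fin 3), true), ((0 : Fin 3), true), ((1 : Fin 3), true), ((0 : Fin 3), true)],
  FreeGroup.mk [((0 : Fin 3), true), ((1 : Fin 3), true), ((0 : Fin 3), true), ((1 : Fin 3), true), ((0 : Fin 3), true), ((1 : Fin 3), true), ((0 : Fin 3), true), ((1 : Fin 3), false), ((0 : Fin 3), true), ((1 : Fin 3), false), ((0 : Fin 3), true), ((1 : Fin 3), false), ((0 : Fin 3), true), ((1 : Fin 3), true), ((0 : Fin 3), true), ((1 : Fin 3), true), ((0 : Fin 3), true), ((1 : Fin 3), false), ((0 : Fin 3),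 true), ((1 : Fin 3), false), ((0 : Fin 3), true), ((1 : Fin 3), false), ((0 : Fin 3), true), ((1 : Fin 3), false), ((0 : Fin 3), true), ((1 : Fin 3), true), ((0 : Fin 3), true), ((1 : Fin 3), true), ((0 : Fin 3), true), ((1 : Fin 3), true), ((0 : Fin 3), true), ((1 : Fin 3), true), ((0 : Fin 3), true), ((1 : Fin 3), false), ((0 : Fin 3), true), ((1 : Fin 3), false)],
  FreeGroup.mk [((1 : Fin 3), false), ((0 : Fin 3), true), ((1 : Fin 3), false), ((0 : Fin 3), true), ((1 : Fin 3), false), ((0 : Fin 3), true), ((1 : Fin 3), true), ((0 : Fin 3), true), ((1 : Fin 3), true), ((0 : Fin 3), true), ((1 : Fin 3), true), ((0 : Fin 3), true), ((1 : Fin 3), false), ((0 : Fin 3), true), ((1 : Fin 3), true), ((0 : Fin 3), true), ((1 : Fin 3), false), ((0 : Fin 3), true), ((1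 : Fin 3), true), ((0 : Fin 3), true), ((1 : Fin 3), true), ((0 : Fin 3), true), ((1 : Fin 3), false), ((0 : Fin 3), true), ((1 : Fin 3), true), ((0 : Fin 3), true), ((1 : Fin 3), true), ((0 : Fin 3), true), ((1 : Fin 3), true), ((0 : Fin 3), true), ((1 : Fin 3), true), ((0 : Fin 3), true), ((1 : Fin 3), true)],
  FreeGroup.mk [((1 : Fin 3), false), ((0 : Fin 3), true), ((1 : Fin 3), true), ((0 : Fin 3), true), ((1 : Fin 3), false), ((0 : Fin 3), true), ((1 : Fin 3), false), ((0 : Fin 3), true), ((1 : Fin 3), true), ((0 : Fin 3), true), ((1 : Fin 3), true), ((0 : Fin 3), true), ((1 : Fin 3), true), ((0 : Fin 3), true), ((1 : Fin 3), true), ((0 : Fin 3), true), ((1 : Fin 3), false), ((0 : Fin 3), true), ((1 : Fin 3), false), ((0 : Fin 3), true), ((1 : Fin 3), false),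 ((0 : Fin 3), true), ((1 : Fin 3), false), ((0 : Fin 3), true), ((1 : Fin 3), true), ((0 : Fin 3), true), ((1 : Fin 3), true), ((0 : Fin 3), true), ((1 : Fin 3), false), ((0 : Fin 3), true), ((1 : Fin 3), false), ((0 : Fin 3), true), ((1 : Fin 3), false), ((0 : Fin 3), true), ((1 : Fin 3), true), ((0 : Fin 3), true), ((1 : Fin 3), false)],
  FreeGroup.mk [((1 : Fin 3), true), ((0 : Fin 3), true), ((1 : Fin 3), true), ((0 : Fin 3), true), ((1 : Fin 3), true), ((0 : Fin 3), true), ((1 : Fin 3), false), ((0 : Fin 3), true), ((1 : Fin 3), false), ((0 : Fin 3), true), ((1 : Fin 3), true), ((0 : Fin 3), true), ((1 : Fin 3), true), ((0 : Fin 3), true), ((1 : Fin 3), false), ((0 : Fin 3), true), ((1 : Fin 3), false), ((0 : Fin 3), true), ((1 : Fin 3), false), ((0 : Fin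 3), true), ((1 : Fin 3), false), ((0 : Fin 3), true), ((1 : Fin 3), false), ((0 : Fin 3), true), ((1 : Fin 3), true), ((0 : Fin 3), true), ((1 : Fin 3), true), ((0 : Fin 3), true), ((1 : Fin 3), false), ((0 : Fin 3), true), ((1 : Fin 3), true), ((0 : Fin 3), true), ((1 : Fin 3), false), ((0 : Fin 3), true), ((1 : Fin 3), false), ((0 : Fin 3), true), ((1 : Fin 3), false)],
  FreeGroup.mk [((0 : Fin 3), true), ((1 : Fin 3), true), ((0 : Fin 3), true), ((1 : Fin 3), false), ((0 : Fin 3), true), ((1 : Fin 3), true), ((0 : Fin 3), true), ((1 : Fin 3), false), ((0 : Fin 3), true), ((1 : Fin 3), true), ((0 : Fin 3), true), ((1 : Fin 3), true), ((0 : Fin 3), true), ((1 : Fin 3), true), ((0 : Fin 3), true), ((1 : Fin 3), false), ((0 : Fin 3), true), ((1 : Fin 3), false),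 ((0 : Fin 3), true), ((1 : Fin 3), false), ((0 : Fin 3), true), ((1 : Fin 3), false), ((0 : Fin 3), true), ((1 : Fin 3), false), ((0 : Fin 3), true), ((1 : Fin 3), true), ((0 : Fin 3), true), ((1 : Fin 3), false), ((0 : Fin 3), true), ((1 : Fin 3), false), ((0 : Fin 3), true), ((1 : Fin 3), true), ((0 : Fin 3), true), ((1 : Fin 3), false), ((0 : Fin 3), true)],
  FreeGroup.mk [((1 : Fin 3), true), ((0 : Fin 3), true), ((1 : Fin 3), false), ((0 : Fin 3), true), ((1 : Fin 3), false), ((0 : Fin 3), true), ((1 : Fin 3), false), ((0 : Fin 3), true), ((1 : Fin 3), true), ((0 : Fin 3), true), ((1 : Fin 3), true), ((0 : Fin 3), true), ((1 : Fin 3), false), ((0 : Fin 3), true), ((1 : Fin 3), true), ((0 : Fin 3), true), ((1 : Fin 3), false), ((0 : Fin 3), true), ((1 : Fin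 3), false), ((0 : Fin 3), true), ((1 : Fin 3), true), ((0 : Fin 3), true), ((1 : Fin 3), false), ((0 : Fin 3), true), ((1 : Fin 3), true), ((0 : Fin 3), true), ((1 : Fin 3), false), ((0 : Fin 3), true), ((1 : Fin 3), true), ((0 : Fin 3), true), ((1 : Fin 3), true), ((0 : Fin 3), true), ((1 : Fin 3), true), ((0 : Fin 3), true), ((1 : Fin 3), true), ((0 : Fin 3), true), ((1 : Fin 3), false)],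
  FreeGroup.mk [((0 : Fin 3), true), ((1 : Fin 3), false), ((0 : Fin 3), true), ((1 : Fin 3), true), ((0 : Fin 3), true), ((1 : Fin 3), false), ((0 : Fin 3), true), ((1 : Fin 3), true), ((0 : Fin 3), true), ((1 : Fin 3), false), ((0 : Fin 3), true), ((1 : Fin 3), true), ((0 : Fin 3), true), ((1 : Fin 3), true), ((0 : Fin 3), true), ((1 : Fin 3), false), ((0 : Fin 3), true), ((1 : Fin 3), true), ((0 : Fin 3), true), ((1 : Fin 3), false), ((0 : Fin 3), true), ((1 : Fin 3), false), ((0 : Fin 3), true)],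
  FreeGroup.mk [((1 : Fin 3), false), ((0 : Fin 3), true), ((1 : Fin 3), false), ((0 : Fin 3), true), ((1 : Fin 3), true), ((0 : Fin 3), true), ((1 : Fin 3), false), ((0 : Fin 3), true), ((1 : Fin 3), true), ((0 : Fin 3), true), ((1 : Fin 3), true), ((0 : Fin 3), true), ((1 : Fin 3), true), ((0 : Fin 3), true), ((1 : Fin 3), true), ((0 : Fin 3), true), ((1 : Fin 3), false), ((0 : Fin 3), true), ((1 : Fin 3), true), ((0 : Fin 3), true), ((1 : Fin 3), true), ((0 : Fin 3), true), ((1 : Fin 3), true), ((0 : Fin 3), true), ((1 : Fin 3), true), ((0 : Fin 3), true), ((1 : Fin 3), false), ((0 : Fin 3), true), ((1 : Fin 3), true), ((0 : Fin 3), true), ((1 : Fin 3), false), ((0 : Fin 3), true), ((1 : Fin 3), false), ((0 : Fin 3), true), ((1 : Fin 3), true), ((0 : Fin 3),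 true), ((1 : Fin 3), true), ((0 : Fin 3), true)],
  FreeGroup.mk [((1 : Fin 3), true), ((0 : Fin 3), true), ((1 : Fin 3), true), ((0 : Fin 3), true), ((1 : Fin 3), false), ((0 : Fin 3), true), ((1 : Fin 3), false), ((0 : Fin 3), true), ((1 : Fin 3), false), ((0 : Fin 3), true), ((1 : Fin 3), true), ((0 : Fin 3), true), ((1 : Fin 3), true), ((0 : Fin 3), true), ((1 : Fin 3), true), ((0 : Fin 3), true), ((1 : Fin 3), true), ((0 : Fin 3), true), ((1 : Fin 3), true), ((0 : Fin 3), true), ((1 : Fin 3), false), ((0 : Fin 3), true), ((1 : Fin 3), true), ((0 : Fin 3), true), ((1 : Fin 3), false)],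
  FreeGroup.mk [((1 : Fin 3), true), ((0 : Fin 3), true), ((1 : Fin 3), true), ((0 : Fin 3), true), ((1 : Fin 3), false), ((0 : Fin 3), true), ((1 : Fin 3), false), ((0 : Fin 3), true), ((1 : Fin 3), false), ((0 : Fin 3), true), ((1 : Fin 3), true), ((0 : Fin 3), true), ((1 : Fin 3), false), ((0 : Fin 3), true), ((1 : Fin 3), false), ((0 : Fin 3), true), ((1 : Fin 3), false), ((0 : Fin 3), true), ((1 : Fin 3), false), ((0 : Fin 3), true), ((1 : Fin 3), false), ((0 : Fin 3), true), ((1 : Fin 3), true)]]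

/-- The root elements with parameter `2` as words in the generators. -/
def rw2 : Fin 12 → FreeGroup (Fin 3) := ![
  FreeGroup.mk [((0 : Fin 3), true), ((1 : Fin 3), false), ((0 : Fin 3), true), ((1 : Fin 3), false), ((0 : Fin 3), true), ((1 : Fin 3), false), ((0 : Fin 3), true), ((1 : Fin 3), false), ((0 : Fin 3), true), ((1 : Fin 3), true), ((0 : Fin 3), true), ((1 : Fin 3), true), ((0 : Fin 3), true), ((1 : Fin 3), false), ((0 : Fin 3), true), ((1 : Fin 3), true), ((0 : Fin 3), true), ((1 : Fin 3), true), ((0 : Fin 3), true), ((1 : Fin 3), false), ((0 : Fin 3), true), ((1 : Fin 3), false), ((0 : Fin 3), true), ((1 : Fin 3), true), ((0 : Fin 3), true), ((1 : Fin 3), true), ((0 : Fin 3), true), ((1 : Fin 3), false), ((0 : Fin 3), true), ((1 : Fin 3), true),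 ((0 : Fin 3), true), ((1 : Fin 3), false), ((0 : Fin 3), true), ((1 : Fin 3), true), ((0 : Fin 3), true)],
  FreeGroup.mk [((0 : Fin 3), true), ((1 : Fin 3), false), ((0 : Fin 3), true), ((1 : Fin 3), false), ((0 : Fin 3), true), ((1 : Fin 3), true), ((0 : Fin 3), true), ((1 : Fin 3), false), ((0 : Fin 3), true), ((1 : Fin 3), false), ((0 : Fin 3), true), ((1 : Fin 3), true), ((0 : Fin 3), true), ((1 : Fin 3), true), ((0 : Fin 3), true), ((1 : Fin 3), true), ((0 : Fin 3), true), ((1 : Fin 3), false), ((0 : Fin 3), true), ((1 : Fin 3), true), ((0 : Fin 3), true), ((1 : Fin 3), true), ((0 : Fin 3), true), ((1 : Fin 3), true), ((0 : Fin 3), true), ((1 : Fin 3), true), ((0 : Fin 3), true), ((1 : Fin 3), true), ((0 : Fin 3), true), ((1 : Fin 3), false), ((0 : Fin 3),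 true), ((1 : Fin 3), false), ((0 : Fin 3), true), ((1 : Fin 3), true), ((0 : Fin 3), true), ((1 : Fin 3), true), ((0 : Fin 3), true)],
  FreeGroup.mk [((1 : Fin 3), true), ((0 : Fin 3), true), ((1 : Fin 3), true), ((0 : Fin 3), true), ((1 : Fin 3), false), ((0 : Fin 3), true), ((1 : Fin 3), false), ((0 : Fin 3), true), ((1 : Fin 3), false), ((0 : Fin 3), true), ((1 : Fin 3), false), ((0 : Fin 3), true), ((1 : Fin 3), true), ((0 : Fin 3), true), ((1 : Fin 3), true), ((0 : Fin 3), true), ((1 : Fin 3), true), ((0 : Fin 3), true), ((1 : Fin 3), true), ((0 : Fin 3), true), ((1 : Fin 3), false), ((0 : Fin 3), true), ((1 : Fin 3), false), ((0 : Fin 3), true), ((1 : Fin 3), true), ((0 : Fin 3), true), ((1 : Fin 3), true), ((0 : Fin 3), true), ((1 : Fin 3), true), ((0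 : Fin 3), true), ((1 : Fin 3), false), ((0 : Fin 3), true), ((1 : Fin 3), false), ((0 : Fin 3), true), ((1 : Fin 3), false), ((0 : Fin 3), true)],
  FreeGroup.mk [((1 : Fin 3), false), ((0 : Fin 3), true), ((1 : Fin 3), false), ((0 : Fin 3), true), ((1 : Fin 3), false), ((0 : Fin 3), true), ((1 : Fin 3), false), ((0 : Fin 3), true), ((1 : Fin 3), false), ((0 : Fin 3), true), ((1 : Fin 3), true), ((0 : Fin 3), true), ((1 : Fin 3), false), ((0 : Fin 3), true), ((1 : Fin 3), false), ((0 : Fin 3), true), ((1 : Fin 3), true), ((0 : Fin 3), true), ((1 : Fin 3), false), ((0 : Fin 3), true), ((1 : Fin 3), true), ((0 : Fin 3), true), ((1 : Fin 3), false), ((0 : Fin 3), true), ((1 : Fin 3), false), ((0 : Fin 3), true), ((1 : Fin 3), false), ((0 : Fin 3), true), ((1 : Fin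 3), true), ((0 : Fin 3), true), ((1 : Fin 3), true), ((0 : Fin 3), true), ((1 : Fin 3), true)],
  FreeGroup.mk [((1 : Fin 3), true), ((0 : Fin 3), true), ((1 : Fin 3), false), ((0 : Fin 3), true), ((1 : Fin 3), true), ((0 : Fin 3), true), ((1 : Fin 3), true), ((0 : Fin 3), true), ((1 : Fin 3), true), ((0 : Fin 3), true), ((1 : Fin 3), false), ((0 : Fin 3), true), ((1 : Fin 3), false), ((0 : Fin 3), true), ((1 : Fin 3), true), ((0 : Fin 3), true), ((1 : Fin 3), true), ((0 : Fin 3), true), ((1 : Fin 3), true), ((0 : Fin 3), true), ((1 : Fin 3), true), ((0 : Fin 3), true), ((1 : Fin 3), false), ((0 : Fin 3), true), ((1 : Fin 3), false), ((0 : Fin 3), true), ((1 : Fin 3), false), ((0 : Fin 3), true), ((1 : Fin 3), false), ((0 : Fin 3), true), ((1 : Fin 3), true),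 ((0 : Fin 3), true), ((1 : Fin 3), true), ((0 : Fin 3), true), ((1 : Fin 3), false), ((0 : Fin 3), true), ((1 : Fin 3), true)],
  FreeGroup.mk [((1 : Fin 3), true), ((0 : Fin 3), true), ((1 : Fin 3), true), ((0 : Fin 3), true), ((1 : Fin 3), true), ((0 : Fin 3), true), ((1 : Fin 3), false), ((0 : Fin 3), true), ((1 : Fin 3), true), ((0 : Fin 3), true), ((1 : Fin 3), false), ((0 : Fin 3), true), ((1 : Fin 3), false), ((0 : Fin 3), true), ((1 : Fin 3), true), ((0 : Fin 3), true), ((1 : Fin 3), true), ((0 : Fin 3), true), ((1 : Fin 3), true), ((0 : Fin 3), true), ((1 : Fin 3), true), ((0 : Fin 3), true), ((1 : Fin 3), true), ((0 : Fin 3), true), ((1 : Fin 3), false), ((0 : Fin 3), true), ((1 : Fin 3), false), ((0 : Fin 3), true), ((1 : Fin 3), true), ((0 : Fin 3),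 true), ((1 : Fin 3), true), ((0 : Fin 3), true), ((1 : Fin 3), false), ((0 : Fin 3), true), ((1 : Fin 3), false), ((0 : Fin 3), true), ((1 : Fin 3), false)],
  FreeGroup.mk [((0 : Fin 3), true), ((1 : Fin 3), true), ((0 : Fin 3), true), ((1 : Fin 3), false), ((0 : Fin 3), true), ((1 : Fin 3), true), ((0 : Fin 3), true), ((1 : Fin 3), true), ((0 : Fin 3), true), ((1 : Fin 3), false), ((0 : Fin 3), true), ((1 : Fin 3), true), ((0 : Fin 3), true), ((1 : Fin 3), true), ((0 : Fin 3), true), ((1 : Fin 3), true), ((0 : Fin 3), true), ((1 : Fin 3), true), ((0 : Fin 3), true), ((1 : Fin 3), true), ((0 : Fin 3), true), ((1 : Fin 3), false), ((0 : Fin 3), true), ((1 : Fin 3), false), ((0 : Fin 3), true), ((1 : Fin 3), false), ((0 : Fin 3), true), ((1 : Fin 3), true), ((0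 : Fin 3), true), ((1 : Fin 3), false), ((0 : Fin 3), true), ((1 : Fin 3), true), ((0 : Fin 3), true), ((1 : Fin 3), false), ((0 : Fin 3), true)],
  FreeGroup.mk [((1 : Fin 3), true), ((0 : Fin 3), true), ((1 : Fin 3), false), ((0 : Fin 3), true), ((1 : Fin 3), false), ((0 : Fin 3), true), ((1 : Fin 3), false), ((0 : Fin 3), true), ((1 : Fin 3), false), ((0 : Fin 3), true), ((1 : Fin 3), true), ((0 : Fin 3), true), ((1 : Fin 3), false), ((0 : Fin 3), true), ((1 : Fin 3), true), ((0 : Fin 3), true), ((1 : Fin 3), false), ((0 : Fin 3), true), ((1 : Fin 3), true), ((0 : Fin 3), true), ((1 : Fin 3), true), ((0 : Fin 3), true), ((1 : Fin 3), false), ((0 : Fin 3), true), ((1 : Fin 3), true), ((0 : Fin 3), true), ((1 : Fin 3), false), ((0 : Fin 3), true), ((1 : Fin 3),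 false), ((0 : Fin 3), true), ((1 : Fin 3), true), ((0 : Fin 3), true), ((1 : Fin 3), true), ((0 : Fin 3), true), ((1 : Fin 3), true), ((0 : Fin 3), true), ((1 : Fin 3), false)],
  FreeGroup.mk [((0 : Fin 3), true), ((1 : Fin 3), true), ((0 : Fin 3), true), ((1 : Fin 3), true), ((0 : Fin 3), true), ((1 : Fin 3), false), ((0 : Fin 3), true), ((1 : Fin 3), true), ((0 : Fin 3), true), ((1 : Fin 3), false), ((0 : Fin 3), true), ((1 : Fin 3), false), ((0 : Fin 3), true), ((1 : Fin 3), true), ((0 : Fin 3), true), ((1 : Fin 3), false), ((0 : Fin 3), true), ((1 : Fin 3), true), ((0 : Fin 3), true), ((1 : Fin 3), false), ((0 : Fin 3), true), ((1 : Fin 3), true), ((0 : Fin 3), true)],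
  FreeGroup.mk [((0 : Fin 3), true), ((1 : Fin 3), false), ((0 : Fin 3), true), ((1 : Fin 3), false), ((0 : Fin 3), true), ((1 : Fin 3), true), ((0 : Fin 3), true), ((1 : Fin 3), true), ((0 : Fin 3), true), ((1 : Fin 3), false), ((0 : Fin 3), true), ((1 : Fin 3), true), ((0 : Fin 3), true), ((1 : Fin 3), false), ((0 : Fin 3), true), ((1 : Fin 3), false), ((0 : Fin 3), true), ((1 : Fin 3), false), ((0 : Fin 3), true), ((1 : Fin 3), false), ((0 : Fin 3), true), ((1 : Fin 3), true), ((0 : Fin 3), true), ((1 : Fin 3), false), ((0 : Fin 3), true), ((1 : Fin 3), false), ((0 : Fin 3), true), ((1 : Fin 3), false), ((0 : Fin 3), true), ((1 : Fin 3), false), ((0 : Fin 3), true), ((1 : Fin 3), true), ((0 : Fin 3), true), ((1 : Fin 3), false), ((0 : Fin 3), true), ((1 : Fin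 3), true), ((0 : Fin 3), true), ((1 : Fin 3), true)],
  FreeGroup.mk [((1 : Fin 3), true), ((0 : Fin 3), true), ((1 : Fin 3), false), ((0 : Fin 3), true), ((1 : Fin 3), true), ((0 : Fin 3), true), ((1 : Fin 3), false), ((0 : Fin 3), true), ((1 : Fin 3), false), ((0 : Fin 3), true), ((1 : Fin 3), false), ((0 : Fin 3), true), ((1 : Fin 3), false), ((0 : Fin 3), true), ((1 : Fin 3), false), ((0 : Fin 3), true), ((1 : Fin 3), true), ((0 : Fin 3), true), ((1 : Fin 3), true), ((0 : Fin 3), true), ((1 : Fin 3), true), ((0 : Fin 3), true), ((1 : Fin 3), false), ((0 : Fin 3), true), ((1 : Fin 3), false)],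
  FreeGroup.mk [((1 : Fin 3), false), ((0 : Fin 3), true), ((1 : Fin 3), true), ((0 : Fin 3), true), ((1 : Fin 3), true), ((0 : Fin 3), true), ((1 : Fin 3), true), ((0 : Fin 3), true), ((1 : Fin 3), true), ((0 : Fin 3), true), ((1 : Fin 3), true), ((0 : Fin 3), true), ((1 : Fin 3), false), ((0 : Fin 3), true), ((1 : Fin 3), true), ((0 : Fin 3), true), ((1 : Fin 3), true), ((0 : Fin 3), true), ((1 : Fin 3), true), ((0 : Fin 3), true), ((1 : Fin 3), false), ((0 : Fin 3), true), ((1 : Fin 3), false)]]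

/-- The root elements as words in the generators. -/
def rw (p : Fin 12 × ZMod 3) : FreeGroup (Fin 3) :=
  match p.2 with
  | 0 => 1
  | 1 => rw1 p.1
  | 2 => rw2 p.1

/-- The first generator as a word in the root elements. -/
def gw0 : FreeGroup (Fin 12 × ZMod 3) :=
  FreeGroup.mk [(((1 : Fin 12), (2 : ZMod 3)), true), (((9 : Fin 12), (1 : ZMod 3)), true), (((10 : Fin 12), (2 : ZMod 3)), true), (((6 : Fin 12), (2 : ZMod 3)), true), (((2 : Fin 12), (2 : ZMod 3)), true), (((4 : Fin 12), (2 : ZMod 3)), true), (((9 : Fin 12), (2 : ZMod 3)), true), (((3 : Fin 12), (1 : ZMod 3)), true), (((1 : Fin 12), (2 : ZMod 3)), true), (((2 : Fin 12), (2 : ZMod 3)), true), (((4 : Fin 12), (2 : ZMod 3)), true), (((9 : Fin 12), (2 : ZMod 3)), true), (((0 : Fin 12), (1 : ZMod 3)),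 true), (((1 : Fin 12), (2 : ZMod 3)), true), (((5 : Fin 12), (2 : ZMod 3)), true), (((8 : Fin 12), (1 : ZMod 3)), true), (((4 : Fin 12), (2 : ZMod 3)), true), (((6 : Fin 12), (2 : ZMod 3)), true), (((2 : Fin 12), (1 : ZMod 3)), true), (((8 : Fin 12), (1 : ZMod 3)), true), (((10 : Fin 12), (1 : ZMod 3)), true), (((10 : Fin 12), (1 : ZMod 3)), true), (((11 : Fin 12), (2 : ZMod 3)), true), (((6 : Fin 12), (2 : ZMod 3)), true), (((4 : Fin 12), (2 : ZMod 3)), true), (((4 : Fin 12), (2 : ZMod 3)), true), (((7 : Fin 12), (1 : ZMod 3)), true), (((7 : Fin 12), (2 : ZMod 3)), true), (((0 : Fin 12), (1 : ZMod 3)), true), (((4 : Fin 12), (1 : ZMod 3)), true), (((10 : Fin 12), (1 : ZMod 3)), true), (((1 : Fin 12), (1 : ZMod 3)), true), (((5 : Fin 12), (2 : ZMod 3)), true),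 (((5 : Fin 12), (2 : ZMod 3)), true), (((2 : Fin 12), (2 : ZMod 3)), true), (((10 : Fin 12), (1 : ZMod 3)), true), (((11 : Fin 12), (1 : ZMod 3)), true), (((10 : Fin 12), (2 : ZMod 3)), true), (((5 : Fin 12), (1 : ZMod 3)), true), (((5 : Fin 12), (1 : ZMod 3)), true), (((1 : Fin 12), (2 : ZMod 3)), true), (((9 : Fin 12), (1 : ZMod 3)), true), (((10 : Fin 12), (2 : ZMod 3)), true), (((6 : Fin 12), (2 : ZMod 3)), true), (((2 : Fin 12), (2 : ZMod 3)), true), (((4 : Fin 12), (2 : ZMod 3)), true), (((9 : Fin 12), (2 : ZMod 3)), true), (((3 : Fin 12), (1 : ZMod 3)), true), (((1 : Fin 12), (2 : ZMod 3)), true), (((2 : Fin 12), (2 : ZMod 3)), true), (((4 : Fin 12), (2 : ZMod 3)), true), (((9 : Fin 12), (2 : ZMod 3)), true), (((0 : Fin 12), (1 : ZMod 3)), true), (((1 :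 Fin 12), (2 : ZMod 3)), true), (((5 : Fin 12), (2 : ZMod 3)), true), (((8 : Fin 12), (1 : ZMod 3)), true), (((4 : Fin 12), (2 : ZMod 3)), true), (((6 : Fin 12), (2 : ZMod 3)), true), (((2 : Fin 12), (1 : ZMod 3)), true), (((8 : Fin 12), (1 : ZMod 3)), true), (((10 : Fin 12), (1 : ZMod 3)), true), (((10 : Fin 12), (1 : ZMod 3)), true), (((11 : Fin 12), (2 : ZMod 3)), true), (((6 : Fin 12), (2 : ZMod 3)), true), (((4 : Fin 12), (2 : ZMod 3)), true), (((4 : Fin 12), (2 : ZMod 3)), true), (((7 : Fin 12), (1 : ZMod 3)), true), (((7 : Fin 12), (2 : ZMod 3)), true), (((0 : Fin 12), (1 : ZMod 3)), true), (((4 : Fin 12), (1 : ZMod 3)), true), (((10 : Fin 12), (1 : ZMod 3)), true), (((1 : Fin 12), (1 : ZMod 3)), true), (((5 : Fin 12), (2 : ZMod 3)), true), (((5 : Fin 12),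 (2 : ZMod 3)), true), (((2 : Fin 12), (2 : ZMod 3)), true), (((10 : Fin 12), (1 : ZMod 3)), true), (((11 : Fin 12), (1 : ZMod 3)), true), (((10 : Fin 12), (2 : ZMod 3)), true), (((5 : Fin 12), (1 : ZMod 3)), true), (((5 : Fin 12), (1 : ZMod 3)), true), (((1 : Fin 12), (2 : ZMod 3)), true), (((9 : Fin 12), (1 : ZMod 3)), true), (((10 : Fin 12), (2 : ZMod 3)), true), (((6 : Fin 12), (2 : ZMod 3)), true), (((2 : Fin 12), (2 : ZMod 3)), true), (((4 : Fin 12), (2 : ZMod 3)), true), (((9 : Fin 12), (2 : ZMod 3)), true), (((3 : Fin 12), (1 : ZMod 3)), true), (((1 : Fin 12), (2 : ZMod 3)), true), (((2 : Fin 12), (2 : ZMod 3)), true), (((4 : Fin 12), (2 : ZMod 3)), true), (((9 : Fin 12), (2 : ZMod 3)), true), (((0 : Fin 12), (1 : ZMod 3)), true), (((1 : Fin 12), (2 : ZMod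 3)), true), (((5 : Fin 12), (2 : ZMod 3)), true), (((8 : Fin 12), (1 : ZMod 3)), true), (((4 : Fin 12), (2 : ZMod 3)), true), (((6 : Fin 12), (2 : ZMod 3)), true), (((2 : Fin 12), (1 : ZMod 3)), true), (((8 : Fin 12), (1 : ZMod 3)), true), (((10 : Fin 12), (1 : ZMod 3)), true), (((10 : Fin 12), (1 : ZMod 3)), true), (((11 : Fin 12), (2 : ZMod 3)), true), (((6 : Fin 12), (2 : ZMod 3)), true), (((4 : Fin 12), (2 : ZMod 3)), true), (((4 : Fin 12), (2 : ZMod 3)), true), (((7 : Fin 12), (1 : ZMod 3)), true), (((7 : Fin 12), (2 : ZMod 3)), true), (((0 : Fin 12), (1 : ZMod 3)), true), (((4 : Fin 12), (1 : ZMod 3)), true), (((10 : Fin 12), (1 : ZMod 3)), true), (((1 : Fin 12), (1 : ZMod 3)), true), (((5 : Fin 12), (2 : ZMod 3)), true), (((5 : Fin 12), (2 : ZMod 3)), true),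 (((2 : Fin 12), (2 : ZMod 3)), true), (((10 : Fin 12), (1 : ZMod 3)), true), (((11 : Fin 12), (1 : ZMod 3)), true), (((10 : Fin 12), (2 : ZMod 3)), true), (((5 : Fin 12), (1 : ZMod 3)), true), (((5 : Fin 12), (1 : ZMod 3)), true)]

/-- The second generator as a word in the root elements. -/
def gw1 : FreeGroup (Fin 12 × ZMod 3) :=
  FreeGroup.mk [(((0 : Fin 12), (1 : ZMod 3)), true), (((2 : Fin 12), (2 : ZMod 3)), true), (((7 : Fin 12), (1 : ZMod 3)), true), (((6 : Fin 12), (1 : ZMod 3)), true), (((9 : Fin 12), (1 : ZMod 3)), true), (((1 : Fin 12), (2 : ZMod 3)), true), (((0 : Fin 12), (2 : ZMod 3)), true), (((3 : Fin 12), (1 : ZMod 3)), true), (((3 : Fin 12), (1 : ZMod 3)), true), (((8 : Fin 12), (2 : ZMod 3)), true), (((2 : Fin 12), (1 : ZMod 3)), true), (((2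 : Fin 12), (2 : ZMod 3)), true), (((10 : Fin 12), (1 : ZMod 3)), true), (((5 : Fin 12), (1 : ZMod 3)), true), (((11 : Fin 12), (2 : ZMod 3)), true), (((7 : Fin 12), (1 : ZMod 3)), true), (((0 : Fin 12), (2 : ZMod 3)), true), (((2 : Fin 12), (2 : ZMod 3)), true), (((10 : Fin 12), (2 : ZMod 3)), true), (((0 : Fin 12), (1 : ZMod 3)), true), (((8 : Fin 12), (1 : ZMod 3)), true), (((2 : Fin 12), (1 : ZMod 3)), true), (((9 : Fin 12), (2 : ZMod 3)), true), (((8 : Fin 12), (1 : ZMod 3)), true), (((9 : Fin 12), (2 : ZMod 3)), true), (((2 : Fin 12), (1 : ZMod 3)), true), (((9 : Fin 12), (1 : ZMod 3)), true), (((7 : Fin 12), (1 : ZMod 3)), true), (((4 : Fin 12), (1 : ZMod 3)), true), (((8 : Fin 12), (1 : ZMod 3)), true), (((10 : Fin 12), (2 : ZMod 3)), true), (((2 : Fin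 12), (1 : ZMod 3)), true), (((3 : Fin 12), (2 : ZMod 3)), true), (((9 : Fin 12), (2 : ZMod 3)), true), (((5 : Fin 12), (1 : ZMod 3)), true), (((9 : Fin 12), (1 : ZMod 3)), true), (((11 : Fin 12), (2 : ZMod 3)), true), (((9 : Fin 12), (1 : ZMod 3)), true), (((0 : Fin 12), (2 : ZMod 3)), true), (((9 : Fin 12), (2 : ZMod 3)), true), (((0 : Fin 12), (1 : ZMod 3)), true), (((2 : Fin 12), (2 : ZMod 3)), true), (((7 : Fin 12), (1 : ZMod 3)), true), (((6 : Fin 12), (1 : ZMod 3)), true), (((9 : Fin 12), (1 : ZMod 3)), true), (((1 : Fin 12), (2 : ZMod 3)), true), (((0 : Fin 12), (2 : ZMod 3)), true), (((3 : Fin 12), (1 : ZMod 3)), true), (((3 : Fin 12), (1 : ZMod 3)), true), (((8 : Fin 12), (2 : ZMod 3)), true), (((2 : Fin 12), (1 : ZMod 3)), true), (((2 : Fin 12), (2 :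 ZMod 3)), true), (((10 : Fin 12), (1 : ZMod 3)), true), (((5 : Fin 12), (1 : ZMod 3)), true), (((11 : Fin 12), (2 : ZMod 3)), true), (((7 : Fin 12), (1 : ZMod 3)), true), (((0 : Fin 12), (2 : ZMod 3)), true), (((2 : Fin 12), (2 : ZMod 3)), true), (((10 : Fin 12), (2 : ZMod 3)), true), (((0 : Fin 12), (1 : ZMod 3)), true), (((8 : Fin 12), (1 : ZMod 3)), true), (((2 : Fin 12), (1 : ZMod 3)), true), (((9 : Fin 12), (2 : ZMod 3)), true), (((8 : Fin 12), (1 : ZMod 3)), true), (((9 : Fin 12), (2 : ZMod 3)), true), (((2 : Fin 12), (1 : ZMod 3)), true), (((9 : Fin 12), (1 : ZMod 3)), true), (((7 : Fin 12), (1 : ZMod 3)), true), (((4 : Fin 12), (1 : ZMod 3)), true), (((8 : Fin 12), (1 : ZMod 3)), true), (((10 : Fin 12), (2 : ZMod 3)), true), (((2 : Fin 12), (1 : ZMod 3)),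 true), (((3 : Fin 12), (2 : ZMod 3)), true), (((9 : Fin 12), (2 : ZMod 3)), true), (((5 : Fin 12), (1 : ZMod 3)), true), (((9 : Fin 12), (1 : ZMod 3)), true), (((11 : Fin 12), (2 : ZMod 3)), true), (((9 : Fin 12), (1 : ZMod 3)), true), (((0 : Fin 12), (2 : ZMod 3)), true), (((9 : Fin 12), (2 : ZMod 3)), true), (((0 : Fin 12), (1 : ZMod 3)), true), (((2 : Fin 12), (2 : ZMod 3)), true), (((7 : Fin 12), (1 : ZMod 3)), true), (((6 : Fin 12), (1 : ZMod 3)), true), (((9 : Fin 12), (1 : ZMod 3)), true), (((1 : Fin 12), (2 : ZMod 3)), true), (((0 : Fin 12), (2 : ZMod 3)), true), (((3 : Fin 12), (1 : ZMod 3)), true), (((3 : Fin 12), (1 : ZMod 3)), true), (((8 : Fin 12), (2 : ZMod 3)), true), (((2 : Fin 12), (1 : ZMod 3)), true), (((2 : Fin 12), (2 : ZMod 3)), true), (((10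 : Fin 12), (1 : ZMod 3)), true), (((5 : Fin 12), (1 : ZMod 3)), true), (((11 : Fin 12), (2 : ZMod 3)), true), (((7 : Fin 12), (1 : ZMod 3)), true), (((0 : Fin 12), (2 : ZMod 3)), true), (((2 : Fin 12), (2 : ZMod 3)), true), (((10 : Fin 12), (2 : ZMod 3)), true), (((0 : Fin 12), (1 : ZMod 3)), true), (((8 : Fin 12), (1 : ZMod 3)), true), (((2 : Fin 12), (1 : ZMod 3)), true), (((9 : Fin 12), (2 : ZMod 3)), true), (((8 : Fin 12), (1 : ZMod 3)), true), (((9 : Fin 12), (2 : ZMod 3)), true), (((2 : Fin 12), (1 : ZMod 3)), true), (((9 : Fin 12), (1 : ZMod 3)), true), (((7 : Fin 12), (1 : ZMod 3)), true), (((4 : Fin 12), (1 : ZMod 3)), true), (((8 : Fin 12), (1 : ZMod 3)), true), (((10 : Fin 12), (2 : ZMod 3)), true), (((2 : Fin 12), (1 : ZMod 3)), true), (((3 : Fin 12),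 (2 : ZMod 3)), true), (((9 : Fin 12), (2 : ZMod 3)), true), (((5 : Fin 12), (1 : ZMod 3)), true), (((9 : Fin 12), (1 : ZMod 3)), true), (((11 : Fin 12), (2 : ZMod 3)), true), (((9 : Fin 12), (1 : ZMod 3)), true), (((0 : Fin 12), (2 : ZMod 3)), true), (((9 : Fin 12), (2 : ZMod 3)), true)]

/-- The third generator as a word in the root elements. -/
def gw2 : FreeGroup (Fin 12 × ZMod 3) :=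
  FreeGroup.mk [(((1 : Fin 12), (2 : ZMod 3)), true), (((9 : Fin 12), (1 : ZMod 3)), true), (((10 : Fin 12), (2 : ZMod 3)), true), (((6 : Fin 12), (2 : ZMod 3)), true), (((2 : Fin 12), (2 : ZMod 3)), true), (((4 : Fin 12), (2 : ZMod 3)), true), (((9 : Fin 12), (2 : ZMod 3)), true), (((3 : Fin 12), (1 : ZMod 3)), true), (((1 : Fin 12), (2 : ZMod 3)), true), (((2 : Fin 12), (2 : ZMod 3)), true), (((4 : Fin 12), (2 : ZMod 3)), true), (((9 : Fin 12), (2 : ZMod 3)), true), (((0 : Fin 12), (1 : ZMod 3)), true), (((1 : Fin 12), (2 : ZMod 3)), true), (((5 : Fin 12), (2 : ZMod 3)), true), (((8 : Fin 12), (1 : ZMod 3)), true), (((4 : Fin 12), (2 : ZMod 3)), true), (((6 : Fin 12), (2 : ZMod 3)), true), (((2 : Fin 12), (1 : ZMod 3)), true), (((8 : Fin 12), (1 : ZMod 3)),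 true), (((10 : Fin 12), (1 : ZMod 3)), true), (((10 : Fin 12), (1 : ZMod 3)), true), (((11 : Fin 12), (2 : ZMod 3)), true), (((6 : Fin 12), (2 : ZMod 3)), true), (((4 : Fin 12), (2 : ZMod 3)), true), (((4 : Fin 12), (2 : ZMod 3)), true), (((7 : Fin 12), (1 : ZMod 3)), true), (((7 : Fin 12), (2 : ZMod 3)), true), (((0 : Fin 12), (1 : ZMod 3)), true), (((4 : Fin 12), (1 : ZMod 3)), true), (((10 : Fin 12), (1 : ZMod 3)), true), (((1 : Fin 12), (1 : ZMod 3)), true), (((5 : Fin 12), (2 : ZMod 3)), true), (((5 : Fin 12), (2 : ZMod 3)), true), (((2 : Fin 12), (2 : ZMod 3)), true), (((10 : Fin 12), (1 : ZMod 3)), true), (((11 : Fin 12), (1 : ZMod 3)), true), (((10 : Fin 12), (2 : ZMod 3)), true), (((5 : Fin 12), (1 : ZMod 3)), true), (((5 : Fin 12), (1 : ZMod 3)), true),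 (((1 : Fin 12), (2 : ZMod 3)), true), (((9 : Fin 12), (1 : ZMod 3)), true), (((10 : Fin 12), (2 : ZMod 3)), true), (((6 : Fin 12), (2 : ZMod 3)), true), (((2 : Fin 12), (2 : ZMod 3)), true), (((4 : Fin 12), (2 : ZMod 3)), true), (((9 : Fin 12), (2 : ZMod 3)), true), (((3 : Fin 12), (1 : ZMod 3)), true), (((1 : Fin 12), (2 : ZMod 3)), true), (((2 : Fin 12), (2 : ZMod 3)), true), (((4 : Fin 12), (2 : ZMod 3)), true), (((9 : Fin 12), (2 : ZMod 3)), true), (((0 : Fin 12), (1 : ZMod 3)), true), (((1 : Fin 12), (2 : ZMod 3)), true), (((5 : Fin 12), (2 : ZMod 3)), true), (((8 : Fin 12), (1 : ZMod 3)), true), (((4 : Fin 12), (2 : ZMod 3)), true), (((6 : Fin 12), (2 : ZMod 3)), true), (((2 : Fin 12), (1 : ZMod 3)), true), (((8 : Fin 12), (1 : ZMod 3)), true), (((10 : Fin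 12), (1 : ZMod 3)), true), (((10 : Fin 12), (1 : ZMod 3)), true), (((11 : Fin 12), (2 : ZMod 3)), true), (((6 : Fin 12), (2 : ZMod 3)), true), (((4 : Fin 12), (2 : ZMod 3)), true), (((4 : Fin 12), (2 : ZMod 3)), true), (((7 : Fin 12), (1 : ZMod 3)), true), (((7 : Fin 12), (2 : ZMod 3)), true), (((0 : Fin 12), (1 : ZMod 3)), true), (((4 : Fin 12), (1 : ZMod 3)), true), (((10 : Fin 12), (1 : ZMod 3)), true), (((1 : Fin 12), (1 : ZMod 3)), true), (((5 : Fin 12), (2 : ZMod 3)), true), (((5 : Fin 12), (2 : ZMod 3)), true), (((2 : Fin 12), (2 : ZMod 3)), true), (((10 : Fin 12), (1 : ZMod 3)), true), (((11 : Fin 12), (1 : ZMod 3)), true), (((10 : Fin 12), (2 : ZMod 3)), true), (((5 : Fin 12), (1 : ZMod 3)), true), (((5 : Fin 12), (1 : ZMod 3)), true), (((1 : Fin 12),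 (2 : ZMod 3)), true), (((9 : Fin 12), (1 : ZMod 3)), true), (((10 : Fin 12), (2 : ZMod 3)), true), (((6 : Fin 12), (2 : ZMod 3)), true), (((2 : Fin 12), (2 : ZMod 3)), true), (((4 : Fin 12), (2 : ZMod 3)), true), (((9 : Fin 12), (2 : ZMod 3)), true), (((3 : Fin 12), (1 : ZMod 3)), true), (((1 : Fin 12), (2 : ZMod 3)), true), (((2 : Fin 12), (2 : ZMod 3)), true), (((4 : Fin 12), (2 : ZMod 3)), true), (((9 : Fin 12), (2 : ZMod 3)), true), (((0 : Fin 12), (1 : ZMod 3)), true), (((1 : Fin 12), (2 : ZMod 3)), true), (((5 : Fin 12), (2 : ZMod 3)), true), (((8 : Fin 12), (1 : ZMod 3)), true), (((4 : Fin 12), (2 : ZMod 3)), true), (((6 : Fin 12), (2 : ZMod 3)), true), (((2 : Fin 12), (1 : ZMod 3)), true), (((8 : Fin 12), (1 : ZMod 3)), true), (((10 : Fin 12), (1 : ZMod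 3)), true), (((10 : Fin 12), (1 : ZMod 3)), true), (((11 : Fin 12), (2 : ZMod 3)), true), (((6 : Fin 12), (2 : ZMod 3)), true), (((4 : Fin 12), (2 : ZMod 3)), true), (((4 : Fin 12), (2 : ZMod 3)), true), (((7 : Fin 12), (1 : ZMod 3)), true), (((7 : Fin 12), (2 : ZMod 3)), true), (((0 : Fin 12), (1 : ZMod 3)), true), (((4 : Fin 12), (1 : ZMod 3)), true), (((10 : Fin 12), (1 : ZMod 3)), true), (((1 : Fin 12), (1 : ZMod 3)), true), (((5 : Fin 12), (2 : ZMod 3)), true), (((5 : Fin 12), (2 : ZMod 3)), true), (((2 : Fin 12), (2 : ZMod 3)), true), (((10 : Fin 12), (1 : ZMod 3)), true), (((11 : Fin 12), (1 : ZMod 3)), true), (((10 : Fin 12), (2 : ZMod 3)), true), (((5 : Fin 12), (1 : ZMod 3)), true), (((5 : Fin 12), (1 : ZMod 3)), true), (((0 : Fin 12), (1 : ZMod 3)),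 true), (((2 : Fin 12), (2 : ZMod 3)), true), (((7 : Fin 12), (1 : ZMod 3)), true), (((6 : Fin 12), (1 : ZMod 3)), true), (((9 : Fin 12), (1 : ZMod 3)), true), (((1 : Fin 12), (2 : ZMod 3)), true), (((0 : Fin 12), (2 : ZMod 3)), true), (((3 : Fin 12), (1 : ZMod 3)), true), (((3 : Fin 12), (1 : ZMod 3)), true), (((8 : Fin 12), (2 : ZMod 3)), true), (((2 : Fin 12), (1 : ZMod 3)), true), (((2 : Fin 12), (2 : ZMod 3)), true), (((10 : Fin 12), (1 : ZMod 3)), true), (((5 : Fin 12), (1 : ZMod 3)), true), (((11 : Fin 12), (2 : ZMod 3)), true), (((7 : Fin 12), (1 : ZMod 3)), true), (((0 : Fin 12), (2 : ZMod 3)), true), (((2 : Fin 12), (2 : ZMod 3)), true), (((10 : Fin 12), (2 : ZMod 3)), true), (((0 : Fin 12), (1 : ZMod 3)), true), (((8 : Fin 12), (1 : ZMod 3)), true),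 (((2 : Fin 12), (1 : ZMod 3)), true), (((9 : Fin 12), (2 : ZMod 3)), true), (((8 : Fin 12), (1 : ZMod 3)), true), (((9 : Fin 12), (2 : ZMod 3)), true), (((2 : Fin 12), (1 : ZMod 3)), true), (((9 : Fin 12), (1 : ZMod 3)), true), (((7 : Fin 12), (1 : ZMod 3)), true), (((4 : Fin 12), (1 : ZMod 3)), true), (((8 : Fin 12), (1 : ZMod 3)), true), (((10 : Fin 12), (2 : ZMod 3)), true), (((2 : Fin 12), (1 : ZMod 3)), true), (((3 : Fin 12), (2 : ZMod 3)), true), (((9 : Fin 12), (2 : ZMod 3)), true), (((5 : Fin 12), (1 : ZMod 3)), true), (((9 : Fin 12), (1 : ZMod 3)), true), (((11 : Fin 12), (2 : ZMod 3)), true), (((9 : Fin 12), (1 : ZMod 3)), true), (((0 : Fin 12), (2 : ZMod 3)), true), (((9 : Fin 12), (2 : ZMod 3)), true), (((0 : Fin 12), (1 : ZMod 3)), true), (((2 : Fin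 12), (2 : ZMod 3)), true), (((7 : Fin 12), (1 : ZMod 3)), true), (((6 : Fin 12), (1 : ZMod 3)), true), (((9 : Fin 12), (1 : ZMod 3)), true), (((1 : Fin 12), (2 : ZMod 3)), true), (((0 : Fin 12), (2 : ZMod 3)), true), (((3 : Fin 12), (1 : ZMod 3)), true), (((3 : Fin 12), (1 : ZMod 3)), true), (((8 : Fin 12), (2 : ZMod 3)), true), (((2 : Fin 12), (1 : ZMod 3)), true), (((2 : Fin 12), (2 : ZMod 3)), true), (((10 : Fin 12), (1 : ZMod 3)), true), (((5 : Fin 12), (1 : ZMod 3)), true), (((11 : Fin 12), (2 : ZMod 3)), true), (((7 : Fin 12), (1 : ZMod 3)), true), (((0 : Fin 12), (2 : ZMod 3)), true), (((2 : Fin 12), (2 : ZMod 3)), true), (((10 : Fin 12), (2 : ZMod 3)), true), (((0 : Fin 12), (1 : ZMod 3)), true), (((8 : Fin 12), (1 : ZMod 3)), true), (((2 : Fin 12), (1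 : ZMod 3)), true), (((9 : Fin 12), (2 : ZMod 3)), true), (((8 : Fin 12), (1 : ZMod 3)), true), (((9 : Fin 12), (2 : ZMod 3)), true), (((2 : Fin 12), (1 : ZMod 3)), true), (((9 : Fin 12), (1 : ZMod 3)), true), (((7 : Fin 12), (1 : ZMod 3)), true), (((4 : Fin 12), (1 : ZMod 3)), true), (((8 : Fin 12), (1 : ZMod 3)), true), (((10 : Fin 12), (2 : ZMod 3)), true), (((2 : Fin 12), (1 : ZMod 3)), true), (((3 : Fin 12), (2 : ZMod 3)), true), (((9 : Fin 12), (2 : ZMod 3)), true), (((5 : Fin 12), (1 : ZMod 3)), true), (((9 : Fin 12), (1 : ZMod 3)), true), (((11 : Fin 12), (2 : ZMod 3)), true), (((9 : Fin 12), (1 : ZMod 3)), true), (((0 : Fin 12), (2 : ZMod 3)), true), (((9 : Fin 12), (2 : ZMod 3)), true), (((0 : Fin 12), (1 : ZMod 3)), true), (((2 : Fin 12), (2 : ZMod 3)),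 true), (((7 : Fin 12), (1 : ZMod 3)), true), (((6 : Fin 12), (1 : ZMod 3)), true), (((9 : Fin 12), (1 : ZMod 3)), true), (((1 : Fin 12), (2 : ZMod 3)), true), (((0 : Fin 12), (2 : ZMod 3)), true), (((3 : Fin 12), (1 : ZMod 3)), true), (((3 : Fin 12), (1 : ZMod 3)), true), (((8 : Fin 12), (2 : ZMod 3)), true), (((2 : Fin 12), (1 : ZMod 3)), true), (((2 : Fin 12), (2 : ZMod 3)), true), (((10 : Fin 12), (1 : ZMod 3)), true), (((5 : Fin 12), (1 : ZMod 3)), true), (((11 : Fin 12), (2 : ZMod 3)), true), (((7 : Fin 12), (1 : ZMod 3)), true), (((0 : Fin 12), (2 : ZMod 3)), true), (((2 : Fin 12), (2 : ZMod 3)), true), (((10 : Fin 12), (2 : ZMod 3)), true), (((0 : Fin 12), (1 : ZMod 3)), true), (((8 : Fin 12), (1 : ZMod 3)), true), (((2 : Fin 12), (1 : ZMod 3)), true),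 (((9 : Fin 12), (2 : ZMod 3)), true), (((8 : Fin 12), (1 : ZMod 3)), true), (((9 : Fin 12), (2 : ZMod 3)), true), (((2 : Fin 12), (1 : ZMod 3)), true), (((9 : Fin 12), (1 : ZMod 3)), true), (((7 : Fin 12), (1 : ZMod 3)), true), (((4 : Fin 12), (1 : ZMod 3)), true), (((8 : Fin 12), (1 : ZMod 3)), true), (((10 : Fin 12), (2 : ZMod 3)), true), (((2 : Fin 12), (1 : ZMod 3)), true), (((3 : Fin 12), (2 : ZMod 3)), true), (((9 : Fin 12), (2 : ZMod 3)), true), (((5 : Fin 12), (1 : ZMod 3)), true), (((9 : Fin 12), (1 : ZMod 3)), true), (((11 : Fin 12), (2 : ZMod 3)), true), (((9 : Fin 12), (1 : ZMod 3)), true), (((0 : Fin 12), (2 : ZMod 3)), true), (((9 : Fin 12), (2 : ZMod 3)), true)]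

/-- The generators as words in the root elements. -/
def gw : Fin 3 → FreeGroup (Fin 12 × ZMod 3) := ![gw0, gw1, gw2]

end Cfsg.Agent.Helper9.G23Mat
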