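import Cfsg.Agent.Lib.Helper9.G23Mat.Defs

set_option autoImplicit false
set_option maxRecDepth 1000000
set_option maxHeartbeats 0

namespace Cfsg.Agent.Helper9.G23Mat

open Matrix Cfsg Cfsg.Lie Cfsg.Agent.Helper9 Cfsg.Agent.Helper9.Vec14F3

theorem gw_ev_1 : ∀ j : Fin 14, ev xr xri gw1.toWord (bas j) = (gA 1).app (bas j) := by
  decide +kernel

end Cfsg.Agent.Helper9.G23Mat
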