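import Cfsg.Agent.Lib.Helper9.G23Mat.Defs

set_option autoImplicit false
set_option maxRecDepth 1000000
set_option maxHeartbeats 0

namespace Cfsg.Agent.Helper9.G23Mat

open Matrix Cfsg Cfsg.Lie Cfsg.Agent.Helper9 Cfsg.Agent.Helper9.Vec14F3

theorem gA_inv : ∀ s : Fin 3, ∀ j : Fin 14, (gA s).app ((gAi s).app (bas j)) = bas j := by
  decide +kernel

theorem gAi_inv : ∀ s : Fin 3, ∀ j : Fin 14, (gAi s).app ((gA s).app (bas j)) = bas j := by
  decide +kernel

theorem xr_inv : ∀ p : Fin 12 × ZMod 3, ∀ j : Fin 14, (xr p).app ((xri p).app (bas j)) = bas j := by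
  decide +kernel

theorem xri_inv : ∀ p : Fin 12 × ZMod 3, ∀ j : Fin 14, (xri p).app ((xr p).app (bas j)) = bas j := by
  decide +kernel

theorem xMat_eq' : ∀ q : (Fin chevG2.nroots × ZMod 3) × (chevG2.Idx × chevG2.Idx),
    chevG2.xMat (ZMod 3) q.1.1 q.1.2 q.2.1 q.2.2 = (xr (q.1.1, q.1.2)).toMat q.2.1 q.2.2 := by
  decide +kernel

theorem xMat_eq (r : Fin chevG2.nroots) (t : ZMod 3) :
    chevG2.xMat (ZMod 3) r t = (xr (r, t)).toMat := by
  ext i j
  exact xMat_eq' ((r, t), (i, j))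

end Cfsg.Agent.Helper9.G23Mat
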